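import Groth.Agent.H02CA.Adeq.Push.InjMod
import Groth.Agent.H02CA.Adeq.Big.Vanish
import Groth.Agent.H02CA.Adeq.Big.ToAb
import Mathlib.CategoryTheory.Abelian.RightDerived
import Mathlib.Algebra.Category.ModuleCat.Sheaf.Limits

/-!
# Sections of an injective resolution of an adequate module over affine objects
-/

set_option autoImplicit false
set_option linter.style.haveILetI false

universe u

open CategoryTheory Opposite Limits TensorProduct AlgebraicGeometry MorphismProperty

namespace Groth.Agent.H02CA.Adq

open Adeq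

variable {P : MorphismProperty Scheme.{u}} [GoodCov P] [BigSite.OSh (Scheme.precoverage P)] {T : Scheme.{u}}

/-- Injective modules are good. -/
theorem goodSheaf_injective (I : BigSite.Mod (Scheme.precoverage P) T) [Injective I] :
    GoodSheaf ((BigSite.toAbMod (Scheme.precoverage P) T).obj I) := by
  intro R a A _ _ _
  haveI := injective_val I
  exact nerveExact_of_injective_module a A I.val

/-- Affine objects are base objects. -/
noncomputable def affineObjIso (X : Over T) [IsAffine X.left] :
    baseObj (R := Γ(X.left, ⊤)) (X.left.isoSpec.inv ≫ X.hom) ≅ X :=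
  Over.isoMk X.left.isoSpec.symm (by
    change X.left.isoSpec.inv ≫ X.hom =
      Spec.map (CommRingCat.ofHom (algebraMap Γ(X.left, ⊤) Γ(X.left, ⊤))) ≫ X.left.isoSpec.inv ≫ X.hom
    rw [show CommRingCat.ofHom (algebraMap Γ(X.left, ⊤) Γ(X.left, ⊤)) = 𝟙 Γ(X.left, ⊤) from
      CommRingCat.hom_ext (RingHom.ext fun _ => rfl)]
    erw [Spec.map_id, Category.id_comp])

section

variable {M : BigSite.Mod (Scheme.precoverage P) T} (I : InjectiveResolution M)

/-- The cycles of a resolution. -/
noncomputable abbrev cyc (n : ℕ) : BigSite.Mod (Scheme.precoverage P) T := kernel (I.cocomplex.d n (n + 1))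

/-- The short complexes of cycles. -/
noncomputable abbrev cycSeq (n : ℕ) : ShortComplex (BigSite.Mod (Scheme.precoverage P) T) :=
  ShortComplex.mk (kernel.ι (I.cocomplex.d n (n + 1)))
    (kernel.lift (I.cocomplex.d (n + 1) (n + 2)) (I.cocomplex.d n (n + 1)) (I.cocomplex.d_comp_d _ _ _))
    (by rw [← cancel_mono (kernel.ι (I.cocomplex.d (n + 1) (n + 2))), Category.assoc, kernel.lift_ι, zero_comp,
      kernel.condition])

lemma shortExact_cycSeq (n : ℕ) : (cycSeq I n).ShortExact := by
  haveI : Epi (cycSeq I n).g := (I.exact_succ n).epi_kernelLift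
  refine { exact := ShortComplex.exact_of_f_is_kernel _ ?_ }
  refine KernelFork.IsLimit.ofι _ _ (fun k hk => kernel.lift _ k ?_) (fun k hk => kernel.lift_ι _ _ _)
    (fun k hk m hm => by rw [← cancel_mono (kernel.ι (I.cocomplex.d n (n + 1))), hm, kernel.lift_ι])
  have h := congrArg (· ≫ kernel.ι (I.cocomplex.d (n + 1) (n + 2))) hk
  rwa [Category.assoc, kernel.lift_ι, zero_comp] at h

lemma shortExact_cycSeq_toAb (n : ℕ) :
    ((cycSeq I n).map (BigSite.toAbMod (Scheme.precoverage P) T)).ShortExact := by
  haveI := ToAb.preservesFiniteColimits_toSheaf (BigSite.ORing (Scheme.precoverage P) T)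
  exact (shortExact_cycSeq I n).map_of_exact _

/-- The cycles of a resolution of an adequate module are good. -/
theorem goodSheaf_cyc (hflat : ∀ {X Y : Scheme.{u}} (f : X ⟶ Y), P f → Flat f)
    (hM : adequateMod (Scheme.precoverage P) T M) (n : ℕ) :
    GoodSheaf ((BigSite.toAbMod (Scheme.precoverage P) T).obj (cyc I n)) := by
  induction n with
  | zero =>
    exact goodSheaf_toAbMod ((adequateMod (Scheme.precoverage P) T).prop_of_iso
      (IsLimit.conePointUniqueUpToIso I.isLimitKernelFork (limit.isLimit _)) hM)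
  | succ n ih =>
    exact goodSheaf_quotient hflat (shortExact_cycSeq_toAb I n) ih (goodSheaf_injective (I.cocomplex.X n))

/-- Resolutions of adequate modules are exact on affine objects. -/
theorem exists_preimage_affine (hflat : ∀ {X Y : Scheme.{u}} (f : X ⟶ Y), P f → Flat f)
    (hM : adequateMod (Scheme.precoverage P) T M) (X : Over T) [IsAffine X.left] (n : ℕ)
    (x : (I.cocomplex.X (n + 1)).val.obj (op X))
    (hx : (I.cocomplex.d (n + 1) (n + 2)).val.app (op X) x = 0) :
    ∃ y : (I.cocomplex.X n).val.obj (op X), (I.cocomplex.d n (n + 1)).val.app (op X) y = x := by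
  obtain ⟨z, hz⟩ : ∃ z : (cyc I (n + 1)).val.obj (op X),
      (kernel.ι (I.cocomplex.d (n + 1) (n + 2))).val.app (op X) z = x := by
    have hS : (ShortComplex.mk (kernel.ι (I.cocomplex.d (n + 1) (n + 2))) (I.cocomplex.d (n + 1) (n + 2))
        (kernel.condition _)).Exact := ShortComplex.exact_of_f_is_kernel _ (kernelIsKernel _)
    haveI : Mono (ShortComplex.mk (kernel.ι (I.cocomplex.d (n + 1) (n + 2))) (I.cocomplex.d (n + 1) (n + 2))
        (kernel.condition _)).f := inferInstanceAs (Mono (kernel.ι _))
    exact (ShortComplex.moduleCat_exact_iff _).1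
      (hS.map_of_mono_of_preservesKernel (SheafOfModules.forget _ ⋙
        PresheafOfModules.evaluation _ (op X)) inferInstance inferInstance) x hx
  obtain ⟨y, hy⟩ := ab_surjective_specOver hflat (shortExact_cycSeq_toAb I n) (goodSheaf_cyc I hflat hM n) _
    (affineObjIso X) z
  refine ⟨y, ?_⟩
  rw [← hz, ← hy]
  exact (ConcreteCategory.congr_hom (congrArg (fun m : I.cocomplex.X n ⟶ I.cocomplex.X (n + 1) => m.val.app (op X))
    (kernel.lift_ι (I.cocomplex.d (n + 1) (n + 2)) (I.cocomplex.d n (n + 1)) (I.cocomplex.d_comp_d _ _ _))) y).symm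

end

end Groth.Agent.H02CA.Adq
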