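import Groth.Agent.H02CA.Adeq.Push.Gmod
import Groth.Agent.H02CA.Adeq.Big.Affine
import Groth.Agent.H02CA.Adeq.Change

/-!
# The families computing a direct image at an affine object
-/

set_option autoImplicit false
set_option linter.style.haveILetI false

universe u

open CategoryTheory Opposite Limits TensorProduct AlgebraicGeometry

namespace Groth.Agent.H02CA.Adq

open Adeq

variable {S T : Scheme.{u}} (f : T ⟶ S) {R : CommRingCat.{u}} (a : Spec R ⟶ S)

/-- The base changes of affine objects. -/
noncomputable def pullFam : TFam R T where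
  X := specOver a ⋙ Over.pullback f
  pr B := pullback.fst ((specOver a).obj (op B)).hom f
  pr_nat φ := pullback.lift_fst _ _ _

/-- The comparison with the base change of the base. -/
noncomputable def pullBase (B : Alg R) : ((pullFam f a).X.obj (op B)).left ⟶ pullback a f :=
  pullback.lift (pullback.fst ((specOver a).obj (op B)).hom f ≫ Spec.map (CommRingCat.ofHom (algebraMap R (B : Type u))))
    (pullback.snd ((specOver a).obj (op B)).hom f)
    ((Category.assoc _ _ _).trans pullback.condition)

section Affine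

variable (A : Type u) [CommRing A] [Algebra R A]

/-- The family of an affine chart. -/
noncomputable def chartFam (b : Spec (CommRingCat.of A) ⟶ T) : TFam R T where
  X := (Adeq.Alg.baseChange R A).op ⋙ specOver (R := CommRingCat.of A) b
  pr B := Spec.map (CommRingCat.ofHom
    (Algebra.TensorProduct.includeRight (R := R) (A := A) (B := (B : Type u))).toRingHom)
  pr_nat {B B'} φ := by
    change Spec.map _ ≫ Spec.map _ = Spec.map _ ≫ Spec.map _
    rw [← Spec.map_comp, ← Spec.map_comp]
    refine congrArg Spec.map (CommRingCat.hom_ext (RingHom.ext fun x => ?_))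
    exact Algebra.TensorProduct.map_tmul (AlgHom.id A A) φ.hom 1 x

variable (b : Spec (CommRingCat.of A) ⟶ T)

/-- The projection to the chart. -/
noncomputable abbrev chartLeft (B : Alg R) : ((chartFam A b).X.obj (op B)).left ⟶ Spec (CommRingCat.of A) :=
  Spec.map (CommRingCat.ofHom (algebraMap A (A ⊗[R] (B : Type u))))

lemma chart_condition (B : Alg R) :
    (chartFam A b).pr B ≫ Spec.map (CommRingCat.ofHom (algebraMap R (B : Type u))) =
      chartLeft A b B ≫ algMap' R A := by
  change Spec.map _ ≫ Spec.map _ = Spec.map _ ≫ Spec.map _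
  rw [← Spec.map_comp, ← Spec.map_comp]
  refine congrArg Spec.map (CommRingCat.hom_ext (RingHom.ext fun r => ?_))
  exact (Algebra.TensorProduct.includeRight (R := R) (A := A) (B := (B : Type u))).commutes r

/-- Maps into a chart are determined by the two projections. -/
lemma chart_ext {B : Alg R} {Z : Scheme.{u}} {m m' : Z ⟶ ((chartFam A b).X.obj (op B)).left}
    (h₁ : m ≫ chartLeft A b B = m' ≫ chartLeft A b B)
    (h₂ : m ≫ (chartFam A b).pr B = m' ≫ (chartFam A b).pr B) : m = m' := by
  rw [← toSpecΓ_gam m, ← toSpecΓ_gam m']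
  refine congrArg (fun φ => Z.toSpecΓ ≫ Spec.map φ) (CommRingCat.hom_ext (RingHom.ext fun z => ?_))
  have e₁ : ∀ x : A, (gam m).hom (x ⊗ₜ[R] (1 : B)) = (gam m').hom (x ⊗ₜ[R] (1 : B)) := fun x =>
    ConcreteCategory.congr_hom ((gam_comp m (CommRingCat.ofHom (algebraMap A (A ⊗[R] (B : Type u))))).symm.trans
      ((congrArg gam h₁).trans (gam_comp m' _))) x
  have e₂ : ∀ y : (B : Type u), (gam m).hom ((1 : A) ⊗ₜ[R] y) = (gam m').hom ((1 : A) ⊗ₜ[R] y) := fun y =>
    ConcreteCategory.congr_hom ((gam_comp m (CommRingCat.ofHom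
      (Algebra.TensorProduct.includeRight (R := R) (A := A) (B := (B : Type u))).toRingHom)).symm.trans
      ((congrArg gam h₂).trans (gam_comp m' _))) y
  induction (z : A ⊗[R] (B : Type u)) using TensorProduct.induction_on with
  | zero => exact (map_zero _).trans (map_zero _).symm
  | tmul x y =>
    have e : (x ⊗ₜ[R] y : A ⊗[R] (B : Type u)) = (x ⊗ₜ[R] (1 : B)) * ((1 : A) ⊗ₜ[R] y) := by
      rw [Algebra.TensorProduct.tmul_mul_tmul, mul_one, one_mul]
    rw [e]
    exact (map_mul _ _ _).trans ((congrArg₂ (· * ·) (e₁ x) (e₂ y)).trans (map_mul _ _ _).symm)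
  | add p q hp hq => exact (map_add _ _ _).trans ((congrArg₂ (· + ·) hp hq).trans (map_add _ _ _).symm)

/-- Maps into a chart. -/
lemma chart_lift {B : Alg R} {Z : Scheme.{u}} (s : Z ⟶ Spec (CommRingCat.of A))
    (t : Z ⟶ Spec (CommRingCat.of (B : Type u)))
    (h : t ≫ Spec.map (CommRingCat.ofHom (algebraMap R (B : Type u))) = s ≫ algMap' R A) :
    ∃ m : Z ⟶ ((chartFam A b).X.obj (op B)).left, m ≫ chartLeft A b B = s ∧ m ≫ (chartFam A b).pr B = t := by
  let q : Z ⟶ Spec R := t ≫ Spec.map (CommRingCat.ofHom (algebraMap R (B : Type u)))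
  let gB : B ⟶ gAlg q := gHom q t rfl
  let gA : algOf R A ⟶ gAlg q := gHom q (B := algOf R A) s h.symm
  let φ : A ⊗[R] (B : Type u) →ₐ[R] (gAlg q : Type u) :=
    Algebra.TensorProduct.lift gA.hom gB.hom fun _ _ => Commute.all _ _
  let φ' : CommRingCat.of (A ⊗[R] (B : Type u)) ⟶ Γ(Z, ⊤) := CommRingCat.ofHom (φ.toRingHom)
  refine ⟨Z.toSpecΓ ≫ Spec.map φ', ?_, ?_⟩
  · refine ((Category.assoc _ _ _).trans (congrArg (Z.toSpecΓ ≫ ·) (Spec.map_comp _ φ').symm)).trans ?_
    refine Eq.trans (congrArg (fun ψ => Z.toSpecΓ ≫ Spec.map ψ) (CommRingCat.hom_ext (RingHom.ext fun x => ?_)))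
      (toSpecΓ_gam s)
    change φ (x ⊗ₜ[R] (1 : B)) = _
    rw [Algebra.TensorProduct.lift_tmul, map_one, mul_one]
    rfl
  · refine ((Category.assoc _ _ _).trans (congrArg (Z.toSpecΓ ≫ ·) (Spec.map_comp _ φ').symm)).trans ?_
    refine Eq.trans (congrArg (fun ψ => Z.toSpecΓ ≫ Spec.map ψ) (CommRingCat.hom_ext (RingHom.ext fun y => ?_)))
      (toSpecΓ_gam t)
    change φ ((1 : A) ⊗ₜ[R] y) = _
    rw [Algebra.TensorProduct.lift_tmul, map_one, one_mul]
    rfl

variable (w : Spec (CommRingCat.of A) ⟶ pullback a f)

/-- The map from a chart to the base change. -/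
noncomputable def chartMap (hw : w ≫ pullback.fst a f = algMap' R A) :
    (chartFam A (w ≫ pullback.snd a f)).X ⟶ (pullFam f a).X where
  app B := Over.homMk
    (pullback.lift ((chartFam A (w ≫ pullback.snd a f)).pr B.unop)
      (chartLeft A (w ≫ pullback.snd a f) B.unop ≫ w ≫ pullback.snd a f)
      (by
        change (chartFam A (w ≫ pullback.snd a f)).pr B.unop ≫ Spec.map _ ≫ a = _
        rw [← Category.assoc, chart_condition, ← hw]
        simp only [Category.assoc, pullback.condition]))
    (pullback.lift_snd _ _ _)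
  naturality {B B'} φ := by
    apply Over.OverMorphism.ext
    apply pullback.hom_ext
    · refine (Category.assoc _ _ _).trans ((congrArg (_ ≫ ·) (pullback.lift_fst _ _ _)).trans ?_)
      refine (TFam.pr_nat (chartFam A (w ≫ pullback.snd a f)) φ.unop).trans ?_
      refine Eq.trans ?_ (Category.assoc _ _ _).symm
      refine Eq.trans ?_ (congrArg (_ ≫ ·) (TFam.pr_nat (pullFam f a) φ.unop)).symm
      exact (congrArg (· ≫ _) (pullback.lift_fst _ _ _).symm).trans (Category.assoc _ _ _)
    · exact (Over.w ((chartFam A (w ≫ pullback.snd a f)).X.map φ ≫ Over.homMk _ (pullback.lift_snd _ _ _))).trans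
        (Over.w (Over.homMk _ (pullback.lift_snd _ _ _) ≫ (pullFam f a).X.map φ)).symm

variable (hw : w ≫ pullback.fst a f = algMap' R A)

lemma chartMap_fst (B : Alg R) :
    ((chartMap f a A w hw).app (op B)).left ≫ (pullFam f a).pr B = (chartFam A (w ≫ pullback.snd a f)).pr B :=
  pullback.lift_fst _ _ _

lemma chartMap_base (B : Alg R) :
    ((chartMap f a A w hw).app (op B)).left ≫ pullBase f a B = chartLeft A (w ≫ pullback.snd a f) B ≫ w := by
  apply pullback.hom_ext
  · refine (Category.assoc _ _ _).trans ((congrArg (_ ≫ ·) (pullback.lift_fst _ _ _)).trans ?_)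
    refine (Category.assoc _ _ _).symm.trans ((congrArg (· ≫ _) (chartMap_fst f a A w hw B)).trans ?_)
    rw [chart_condition, ← hw, Category.assoc]
  · refine (Category.assoc _ _ _).trans ((congrArg (_ ≫ ·) (pullback.lift_snd _ _ _)).trans ?_)
    exact (pullback.lift_snd _ _ _).trans (Category.assoc _ _ _).symm

include hw in
lemma chart_cone_lift {B : Alg R} {Z : Scheme.{u}} (s₁ : Z ⟶ ((pullFam f a).X.obj (op B)).left)
    (s₂ : Z ⟶ Spec (CommRingCat.of A)) (h : s₁ ≫ pullBase f a B = s₂ ≫ w) :
    ∃ m : Z ⟶ ((chartFam A (w ≫ pullback.snd a f)).X.obj (op B)).left,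
      m ≫ ((chartMap f a A w hw).app (op B)).left = s₁ ∧ m ≫ chartLeft A (w ≫ pullback.snd a f) B = s₂ := by
  obtain ⟨m, h₁, h₂⟩ := chart_lift A (w ≫ pullback.snd a f) s₂ (s₁ ≫ (pullFam f a).pr B) (by
    have e := congrArg (· ≫ pullback.fst a f) h
    refine (Category.assoc _ _ _).trans (((congrArg (s₁ ≫ ·) ?_).trans (Category.assoc _ _ _).symm).trans (e.trans ?_))
    · exact (pullback.lift_fst _ _ _).symm
    · exact (Category.assoc _ _ _).trans (congrArg (s₂ ≫ ·) hw))
  refine ⟨m, pullback.hom_ext ?_ ?_, h₁⟩
  · exact (Category.assoc _ _ _).trans ((congrArg (m ≫ ·) (chartMap_fst f a A w hw B)).trans h₂)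
  · refine (Category.assoc _ _ _).trans ((congrArg (m ≫ ·) (pullback.lift_snd _ _ _)).trans ?_)
    refine (Category.assoc _ _ _).symm.trans ((congrArg (· ≫ w ≫ pullback.snd a f) h₁).trans ?_)
    refine (Category.assoc _ _ _).symm.trans ((congrArg (· ≫ pullback.snd a f) h.symm).trans ?_)
    exact (Category.assoc _ _ _).trans (congrArg (s₁ ≫ ·) (pullback.lift_snd _ _ _))

include hw in
/-- A chart is the inverse image of the chart in the base change. -/
theorem isPullback_chartMap (B : Alg R) :
    IsPullback ((chartMap f a A w hw).app (op B)).left (chartLeft A (w ≫ pullback.snd a f) B)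
      (pullBase f a B) w := by
  have hsq := chartMap_base f a A w hw B
  have hl := fun s : PullbackCone (pullBase f a B) w => chart_cone_lift f a A w hw s.fst s.snd s.condition
  choose l hl₁ hl₂ using hl
  refine ⟨⟨hsq⟩, ⟨PullbackCone.IsLimit.mk hsq l hl₁ hl₂ fun s m h₁ h₂ => ?_⟩⟩
  refine chart_ext A (w ≫ pullback.snd a f) (h₂.trans (hl₂ s).symm) ?_
  have key : ∀ n : s.pt ⟶ ((chartFam A (w ≫ pullback.snd a f)).X.obj (op B)).left,
      n ≫ (chartFam A (w ≫ pullback.snd a f)).pr B =
        (n ≫ ((chartMap f a A w hw).app (op B)).left) ≫ (pullFam f a).pr B := fun n =>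
    (congrArg (n ≫ ·) (chartMap_fst f a A w hw B).symm).trans (Category.assoc _ _ _).symm
  exact (key m).trans ((congrArg (· ≫ _) (h₁.trans (hl₁ s).symm)).trans (key (l s)).symm)

include hw in
lemma isOpenImmersion_chartMap [IsOpenImmersion w] (B : Alg R) :
    IsOpenImmersion ((chartMap f a A w hw).app (op B)).left :=
  MorphismProperty.of_isPullback (P := @IsOpenImmersion) (isPullback_chartMap f a A w hw B).flip inferInstance

include hw in
lemma mem_range_chartMap {B : Alg R} (x : ((pullFam f a).X.obj (op B)).left) (y : Spec (CommRingCat.of A))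
    (h : pullBase f a B x = w y) : x ∈ Set.range ((chartMap f a A w hw).app (op B)).left := by
  obtain ⟨z, hz, -⟩ := Scheme.Pullback.exists_preimage_pullback (f := pullBase f a B) (g := w) x y h
  refine ⟨(isPullback_chartMap f a A w hw B).isoPullback.inv z, ?_⟩
  rw [← Scheme.Hom.comp_apply, IsPullback.isoPullback_inv_fst, hz]

end Affine

section Adequate

variable {K : Precoverage Scheme.{u}} [BigSite.OSh K] (A : Type u) [CommRing A] [Algebra R A]

lemma gam_Spec_map {B C : CommRingCat.{u}} (φ : B ⟶ C) :
    gam (Spec.map φ) = φ ≫ (Scheme.ΓSpecIso C).inv := by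
  rw [gam, Scheme.ΓSpecIso_inv_naturality]

/-- The functor of a chart is a pushforward. -/
theorem adequate_chartFam (b : Spec (CommRingCat.of A) ⟶ T) (M : BigSite.Mod K T)
    (h : adequate A (FModPre (R := CommRingCat.of A) K b M.val)) :
    adequate R ((chartFam (R := R) A b).gmod M.val) := by
  let G : MVF R := (Adeq.push R A).obj (FModPre (R := CommRingCat.of A) K b M.val)
  let i : G ⟶ (chartFam (R := R) A b).gmod M.val :=
    PresheafOfModules.homMk
      { app := fun B => AddCommGrpCat.ofHom
          { toFun := fun x => x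
            map_zero' := rfl
            map_add' := fun _ _ => rfl }
        naturality := fun {B B'} g => rfl }
      (fun B r x => by
        change (show (BigSite.ORing K T).obj.obj (op ((chartFam (R := R) A b).X.obj (op B.unop.unop))) from
            toSect (R := CommRingCat.of A) K b ((Adeq.Alg.baseChange R A).obj B.unop.unop)
            ((1 : A) ⊗ₜ[R] (show (B.unop.unop : Type u) from r))) • (show M.val.obj (op ((chartFam (R := R) A b).X.obj (op B.unop.unop))) from x) =
          (chartFam (R := R) A b).scal (K := K) B.unop.unop r • (show M.val.obj (op ((chartFam (R := R) A b).X.obj (op B.unop.unop))) from x)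
        congr 1
        apply ULift.ext
        change _ = (gam (Spec.map (CommRingCat.ofHom
          (Algebra.TensorProduct.includeRight (R := R) (A := A) (B := (B.unop.unop : Type u))).toRingHom)))
            (show (B.unop.unop : Type u) from r)
        rw [gam_Spec_map]
        rfl)
  haveI : IsIso i := isIso_of_bijective _ fun B => ⟨fun x y h => h, fun y => ⟨y, rfl⟩⟩
  exact (adequate R).prop_of_iso (asIso i) (adequate_push' R A h)

/-- The functor of a direct image is the functor of the base changes. -/
theorem adequate_pushMod_at (M : BigSite.Mod K T)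
    (h : adequate R ((pullFam f a).gmod M.val)) :
    adequate R (FModPre K a ((BigSite.pushMod K f).obj M).val) := by
  let i : (pullFam f a).gmod M.val ⟶ FModPre K a ((BigSite.pushMod K f).obj M).val :=
    PresheafOfModules.homMk
      { app := fun B => AddCommGrpCat.ofHom
          { toFun := fun x => x
            map_zero' := rfl
            map_add' := fun _ _ => rfl }
        naturality := fun {B B'} g => rfl }
      (fun B r x => by
        change (pullFam f a).scal (K := K) B.unop.unop r • (show M.val.obj (op ((pullFam f a).X.obj (op B.unop.unop))) from x) =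
          (show (BigSite.ORing K T).obj.obj (op ((pullFam f a).X.obj (op B.unop.unop))) from
            (BigSite.ORingAbs K).obj.map (pullback.fst ((specOver a).obj (op B.unop.unop)).hom f).op
              (toSect K a B.unop.unop r)) • (show M.val.obj (op ((pullFam f a).X.obj (op B.unop.unop))) from x)
        rfl)
  haveI : IsIso i := isIso_of_bijective _ fun B => ⟨fun x y h => h, fun y => ⟨y, rfl⟩⟩
  exact (adequate R).prop_of_iso (asIso i) h

end Adequate

end Groth.Agent.H02CA.Adq
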