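import Groth.Agent.H02CA.Adeq.Big.Compare

/-!
# Module valued functors of sections along families of objects
-/

set_option autoImplicit false
set_option linter.style.haveILetI false

universe u

open CategoryTheory Opposite Limits TensorProduct AlgebraicGeometry

namespace Groth.Agent.H02CA.Adq

open Adeq

/-- A family of objects over `T` mapping to the spectra of the algebras over `R`. -/
structure TFam (R : CommRingCat.{u}) (T : Scheme.{u}) where
  /-- The objects. -/
  X : (Alg R)ᵒᵖ ⥤ Over T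
  /-- The projections. -/
  pr : ∀ B : Alg R, (X.obj (op B)).left ⟶ Spec (CommRingCat.of (B : Type u))
  pr_nat : ∀ {B B' : Alg R} (φ : B ⟶ B'),
    (X.map φ.op).left ≫ pr B = pr B' ≫ Spec.map (CommRingCat.ofHom φ.hom.toRingHom)

variable {K : Precoverage Scheme.{u}} [BigSite.OSh K] {T : Scheme.{u}} {R : CommRingCat.{u}}

namespace TFam

variable (𝔛 : TFam R T)

/-- Scalars acting on sections. -/
noncomputable def scal (B : Alg R) : (B : Type u) →+* (BigSite.ORing K T).obj.obj (op (𝔛.X.obj (op B))) :=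
  (ULift.ringEquiv.symm : Γ((𝔛.X.obj (op B)).left, ⊤) ≃+* ULift.{u + 1} Γ((𝔛.X.obj (op B)).left, ⊤)).toRingHom.comp
    (gam (𝔛.pr B)).hom

lemma scal_natural {B B' : Alg R} (φ : B ⟶ B') (b : B) :
    (BigSite.ORing K T).obj.map (𝔛.X.map φ.op).op (𝔛.scal (K := K) B b) = 𝔛.scal (K := K) B' (φ.hom b) := by
  apply ULift.ext
  change ((gam (𝔛.pr B)) ≫ (𝔛.X.map φ.op).left.appTop) b = _
  have e : gam (𝔛.pr B) ≫ (𝔛.X.map φ.op).left.appTop =
      CommRingCat.ofHom φ.hom.toRingHom ≫ gam (𝔛.pr B') := by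
    rw [← gam_comp, ← 𝔛.pr_nat φ, gam, gam, Category.assoc, ← Scheme.Hom.comp_appTop]
  rw [e]
  rfl

variable (P : PresheafOfModules.{u + 1} (BigSite.ORing K T).obj)

/-- The abelian groups of sections. -/
noncomputable def ab : (Alg R)ᵒᵖᵒᵖ ⥤ Ab.{u + 1} :=
  𝔛.X.op ⋙ (PresheafOfModules.toPresheaf (BigSite.ORing K T).obj).obj P

/-- The sections as a module over the sections of the structure sheaf. -/
noncomputable instance abModuleO (B : (Alg R)ᵒᵖᵒᵖ) :
    Module ((BigSite.ORing K T).obj.obj (op (𝔛.X.obj (op B.unop.unop)))) ((𝔛.ab P).obj B) :=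
  (P.obj (op (𝔛.X.obj (op B.unop.unop)))).isModule

/-- The sections as a module over the algebra. -/
noncomputable instance abModule (B : (Alg R)ᵒᵖᵒᵖ) : Module B.unop.unop ((𝔛.ab P).obj B) :=
  Module.compHom ((𝔛.ab P).obj B) (𝔛.scal (K := K) B.unop.unop)

/-- The module valued functor of sections along a family. -/
noncomputable def gmod : MVF R :=
  PresheafOfModules.ofPresheaf (𝔛.ab P) (by
    intro B B' f r m
    refine (P.map_smul (𝔛.X.map f.unop).op (𝔛.scal (K := K) B.unop.unop r) m).trans ?_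
    congr 1
    exact 𝔛.scal_natural f.unop.unop r)

/-- Values as sections. -/
noncomputable def val (B : Alg R) : (𝔛.gmod P).obj (pt B) ≃+ P.obj (op (𝔛.X.obj (op B))) where
  toFun x := x
  invFun x := x
  left_inv _ := rfl
  right_inv _ := rfl
  map_add' _ _ := rfl

lemma val_smul (B : Alg R) (r : B) (x : (𝔛.gmod P).obj (pt B)) :
    𝔛.val P B (r • x) = 𝔛.scal (K := K) B r • 𝔛.val P B x := rfl

lemma val_mp {B B' : Alg R} (f : B ⟶ B') (x : (𝔛.gmod P).obj (pt B)) :
    𝔛.val P B' (mp (𝔛.gmod P) f x) = tr P (𝔛.X.map f.op) (𝔛.val P B x) := rfl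

variable {𝔛} {𝔜 : TFam R T}

lemma scal_comp (α : 𝔜.X ⟶ 𝔛.X) (hα : ∀ B, (α.app (op B)).left ≫ 𝔛.pr B = 𝔜.pr B) (B : Alg R) (r : B) :
    (BigSite.ORing K T).obj.map (α.app (op B)).op (𝔛.scal (K := K) B r) = 𝔜.scal (K := K) B r := by
  apply ULift.ext
  change (gam (𝔛.pr B) ≫ (α.app (op B)).left.appTop) r = (gam (𝔜.pr B)) r
  rw [← hα B, gam, gam, Category.assoc, ← Scheme.Hom.comp_appTop]

/-- Restriction along a map of families. -/
noncomputable def gmap (α : 𝔜.X ⟶ 𝔛.X) (hα : ∀ B, (α.app (op B)).left ≫ 𝔛.pr B = 𝔜.pr B) :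
    𝔛.gmod P ⟶ 𝔜.gmod P :=
  PresheafOfModules.homMk
    { app := fun B => AddCommGrpCat.ofHom (((𝔜.val P B.unop.unop).symm.toAddMonoidHom.comp
        (tr P (α.app (op B.unop.unop)))).comp (𝔛.val P B.unop.unop).toAddMonoidHom)
      naturality := fun {B B'} f => by
        ext x
        change tr P (α.app (op B'.unop.unop)) (tr P (𝔛.X.map f.unop.unop.op) (𝔛.val P B.unop.unop x)) =
          tr P (𝔜.X.map f.unop.unop.op) (tr P (α.app (op B.unop.unop)) (𝔛.val P B.unop.unop x))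
        rw [tr_comp, tr_comp, α.naturality] }
    (fun B r x => by
      change tr P (α.app (op B.unop.unop)) (𝔛.scal (K := K) B.unop.unop r • 𝔛.val P B.unop.unop x) =
        𝔜.scal (K := K) B.unop.unop r • tr P (α.app (op B.unop.unop)) (𝔛.val P B.unop.unop x)
      rw [tr_smul, scal_comp α hα])

lemma val_gmap (α : 𝔜.X ⟶ 𝔛.X) (hα : ∀ B, (α.app (op B)).left ≫ 𝔛.pr B = 𝔜.pr B) (B : Alg R)
    (x : (𝔛.gmod P).obj (pt B)) :
    𝔜.val P B ((gmap P α hα).app (pt B) x) = tr P (α.app (op B)) (𝔛.val P B x) := rfl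

end TFam

end Groth.Agent.H02CA.Adq
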