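import Groth.Agent.H02CA.Adeq.Big.InjAcyclic
import Mathlib.Algebra.Category.ModuleCat.Presheaf.Free
import Mathlib.Algebra.Category.ModuleCat.Presheaf.Abelian
import Mathlib.Algebra.Category.ModuleCat.Presheaf.Sheafification
import Mathlib.Algebra.Homology.ShortComplex.ModuleCat
import Groth.Prelude.Def_BigSite2

/-!
# Injective presheaves of modules on big sites are flasque and acyclic on nerves
-/

set_option autoImplicit false
set_option linter.style.haveILetI false

universe w v u

open CategoryTheory Opposite Limits TensorProduct AlgebraicGeometry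

namespace Groth.Agent.H02CA.Adq

open Adeq
open Groth.Agent.H13Desc

variable {S : Scheme.{u}} {R₀ : (Over S)ᵒᵖ ⥤ RingCat.{u + 1}}

/-- Exactness of presheaves of modules is checked value by value. -/
theorem exact_of_eval {C : Type*} [Category C] {Q : Cᵒᵖ ⥤ RingCat.{v}}
    (T : ShortComplex (PresheafOfModules.{w} Q))
    (h : ∀ X, (T.map (PresheafOfModules.evaluation Q X)).Exact) : T.Exact := by
  rw [ShortComplex.exact_iff_isZero_homology, IsZero.iff_id_eq_zero]
  refine PresheafOfModules.hom_ext fun X => ?_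
  exact (IsZero.iff_id_eq_zero _).1 (((ShortComplex.exact_iff_isZero_homology _).1 (h X)).of_iso
    (T.mapHomologyIso (PresheafOfModules.evaluation Q X)).symm)

variable (R₀)

/-- The free presheaf of modules on an object. -/
noncomputable abbrev freeY (X : Over S) : PresheafOfModules.{u + 1} R₀ :=
  (PresheafOfModules.free R₀).obj (uliftYoneda.{u + 1}.obj X)

/-- A generator. -/
noncomputable def genY {X V : Over S} (t : V ⟶ X) : (freeY R₀ X).obj (op V) :=
  ModuleCat.freeMk (R := R₀.obj (op V)) (X := (uliftYoneda.{u + 1}.obj X).obj (op V)) (ULift.up t)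

variable {R₀}

lemma freeY_hom_ext {X V : Over S} {M : ModuleCat.{u + 1} (R₀.obj (op V))}
    {f g : (freeY R₀ X).obj (op V) ⟶ M} (h : ∀ t, f (genY R₀ t) = g (genY R₀ t)) : f = g :=
  ModuleCat.free_hom_ext fun t => h t.down

/-- A section as a map out of a free presheaf. -/
noncomputable def chiY (G : PresheafOfModules.{u + 1} R₀) {X : Over S} (x : G.obj (op X)) : freeY R₀ X ⟶ G :=
  PresheafOfModules.freeObjDesc (uliftYonedaEquiv.{u + 1}.symm x)

lemma chiY_gen (G : PresheafOfModules.{u + 1} R₀) {X V : Over S} (x : G.obj (op X)) (t : V ⟶ X) :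
    (chiY G x).app (op V) (genY R₀ t) = G.map t.op x := by
  exact ModuleCat.freeDesc_apply _ _

/-- The map of free presheaves of a morphism. -/
noncomputable abbrev freeMap (R₀ : (Over S)ᵒᵖ ⥤ RingCat.{u + 1}) {X Y : Over S} (e : X ⟶ Y) :
    freeY R₀ X ⟶ freeY R₀ Y :=
  (PresheafOfModules.free R₀).map (uliftYoneda.{u + 1}.map e)

lemma freeMap_gen {X Y V : Over S} (e : X ⟶ Y) (t : V ⟶ X) :
    (freeMap R₀ e).app (op V) (genY R₀ t) = genY R₀ (t ≫ e) :=
  ModuleCat.free_map_apply _ _

/-- Injective presheaves of modules are flasque. -/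
theorem surjective_map_of_mono (I : PresheafOfModules.{u + 1} R₀) [Injective I] {U V : Over S} (e : U ⟶ V)
    [Mono e] : Function.Surjective (I.map e.op) := by
  intro x
  haveI : Mono (freeMap R₀ e) := by
    haveI : Mono ((PresheafOfModules.toPresheaf _).map (freeMap R₀ e)) := by
      rw [NatTrans.mono_iff_mono_app]
      intro X
      rw [AddCommGrpCat.mono_iff_injective]
      exact Finsupp.mapDomain_injective (f := fun t : ULift.{u + 1} (X.unop ⟶ U) => ULift.up.{u + 1} (t.down ≫ e))
        fun t t' h => ULift.ext _ _ ((cancel_mono e).1 (congrArg ULift.down h))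
    exact (PresheafOfModules.toPresheaf _).mono_of_mono_map this
  obtain ⟨ψ, hψ⟩ : ∃ ψ, freeMap R₀ e ≫ ψ = chiY I (show I.obj (op U) from x) :=
    ⟨_, Injective.comp_factorThru _ (freeMap R₀ e)⟩
  refine ⟨ψ.app (op V) (genY R₀ (𝟙 V)), ?_⟩
  have h := ConcreteCategory.congr_hom (congrArg (fun m => PresheafOfModules.Hom.app m (op U)) hψ)
    (genY R₀ (𝟙 U))
  rw [chiY_gen] at h
  rw [← PresheafOfModules.naturality_apply]
  refine Eq.trans ?_ (h.trans (ConcreteCategory.congr_hom (I.presheaf.map_id (op U)) x))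
  refine congrArg (ψ.app (op U)) ?_
  refine Eq.trans ?_ (freeMap_gen e (𝟙 U)).symm
  refine (ModuleCat.freeDesc_apply _ _).trans ?_
  exact congrArg (fun t : U ⟶ V => genY R₀ t) ((Category.comp_id e).trans (Category.id_comp e).symm)

section Nerve

variable {R : CommRingCat.{u}} (a : Spec R ⟶ S) (A : Type u) [CommRing A] [Algebra R A]
variable (R₀)

/-- The boundary. -/
noncomputable def freeYD (k : ℕ) : freeY R₀ (nerveObj a A (k + 1)) ⟶ freeY R₀ (nerveObj a A k) :=
  ∑ i : Fin (k + 2), (-1 : ℤ) ^ (i : ℕ) • freeMap R₀ (face a A k i)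

lemma freeYD_gen (k : ℕ) {V : Over S} (t : V ⟶ nerveObj a A (k + 1)) :
    (freeYD R₀ a A k).app (op V) (genY R₀ t) =
      ∑ i : Fin (k + 2), (-1 : ℤ) ^ (i : ℕ) • genY R₀ (t ≫ face a A k i) := by
  have e : (freeYD R₀ a A k).app (op V) =
      ∑ i : Fin (k + 2), (-1 : ℤ) ^ (i : ℕ) • (freeMap R₀ (face a A k i)).app (op V) := by
    rw [freeYD]
    exact ((PresheafOfModules.evaluation R₀ (op V)).map_sum _ _).trans
      (Finset.sum_congr rfl fun i _ => (PresheafOfModules.evaluation R₀ (op V)).map_zsmul)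
  have hs : ∀ {M N : ModuleCat.{u + 1} (R₀.obj (op V))} (f : Fin (k + 2) → (M ⟶ N)) (z : M),
      (∑ i, f i) z = ∑ i, f i z := fun f z => by
    change (∑ i, f i).hom z = _
    rw [ModuleCat.hom_sum, LinearMap.sum_apply]
  rw [e]
  refine (hs _ _).trans ?_
  refine Finset.sum_congr rfl fun i _ => ?_
  exact congrArg (fun z : (freeY R₀ (nerveObj a A k)).obj (op V) => (-1 : ℤ) ^ (i : ℕ) • z) (freeMap_gen _ t)

lemma freeYD_comp (k : ℕ) : freeYD R₀ a A (k + 1) ≫ freeYD R₀ a A k = 0 :=
  AlgebraicTopology.AlternatingFaceMapComplex.d_squared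
    (nerve a A ⋙ uliftYoneda.{u + 1} ⋙ PresheafOfModules.free R₀ :
      SimplicialObject (PresheafOfModules.{u + 1} R₀)) k

/-- The free complex is exact in positive degrees. -/
theorem freeYCx_exact (k : ℕ) :
    (ShortComplex.mk (freeYD R₀ a A (k + 1)) (freeYD R₀ a A k) (freeYD_comp R₀ a A k)).Exact := by
  classical
  refine exact_of_eval _ fun V => ?_
  rw [ShortComplex.moduleCat_exact_iff]
  intro x (hx : (freeYD R₀ a A k).app V x = 0)
  obtain ⟨V⟩ := V
  let σ : (V.left ⟶ Spec R) → Option (V ⟶ (specOver a).obj (op (algOf R A))) := fun q =>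
    if h : ∃ s : V ⟶ (specOver a).obj (op (algOf R A)),
      s.left ≫ Spec.map (CommRingCat.ofHom (algebraMap R A)) = q then some h.choose else none
  have hσ : ∀ (n : ℕ) (t : V ⟶ nerveObj a A n), ∃ s, σ (t.left ≫ nerveBase a A n) = some s ∧
      s.left ≫ Spec.map (CommRingCat.ofHom (algebraMap R A)) = t.left ≫ nerveBase a A n := by
    intro n t
    have h : ∃ s : V ⟶ (specOver a).obj (op (algOf R A)),
        s.left ≫ Spec.map (CommRingCat.ofHom (algebraMap R A)) = t.left ≫ nerveBase a A n :=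
      ⟨t ≫ nervePr a A n 0, (Category.assoc _ _ _).trans (congrArg (t.left ≫ ·) (nervePr_base a A n 0))⟩
    exact ⟨h.choose, dif_pos h, h.choose_spec⟩
  choose s hsσ hs using hσ
  have hcons : ∀ (n : ℕ) (t : V ⟶ nerveObj a A n), ∃ m : V ⟶ nerveObj a A (n + 1),
      (∀ j, m ≫ nervePr a A (n + 1) j = (Fin.cons (s n t) (fun j => t ≫ nervePr a A n j) :
        Fin (n + 2) → (V ⟶ (specOver a).obj (op (algOf R A)))) j) ∧
      m.left ≫ nerveBase a A (n + 1) = t.left ≫ nerveBase a A n := by
    intro n t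
    refine exists_nerve_lift a A (t.left ≫ nerveBase a A n) ?_ _ fun j => ?_
    · exact (Category.assoc _ _ _).trans (Over.w t)
    · refine Fin.cases ?_ (fun j => ?_) j
      · exact hs n t
      · exact (Category.assoc _ _ _).trans (congrArg (t.left ≫ ·) (nervePr_base a A n j))
  choose c hc hcb using hcons
  let h : ∀ n : ℕ, (freeY R₀ (nerveObj a A n)).obj (op V) ⟶ (freeY R₀ (nerveObj a A (n + 1))).obj (op V) :=
    fun n => ModuleCat.freeDesc (↾fun t : (uliftYoneda.{u + 1}.obj (nerveObj a A n)).obj (op V) =>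
      genY R₀ (c n t.down))
  have hh : ∀ (n : ℕ) (t : V ⟶ nerveObj a A n), h n (genY R₀ t) = genY R₀ (c n t) := fun n t =>
    ModuleCat.freeDesc_apply _ _
  have h0 : ∀ (n : ℕ) (t : V ⟶ nerveObj a A n), c n t ≫ face a A n 0 = t := fun n t =>
    nerve_ext a A fun j => by
      rw [Category.assoc, nerveMap_pr, hc, Fin.succAbove_zero, Fin.cons_succ]
  have hsucc : ∀ (n : ℕ) (t : V ⟶ nerveObj a A (n + 1)) (i : Fin (n + 2)),
      c (n + 1) t ≫ face a A (n + 1) i.succ = c n (t ≫ face a A n i) := fun n t i =>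
    nerve_ext a A fun j => by
      rw [Category.assoc, nerveMap_pr, hc, hc]
      refine Fin.cases ?_ (fun j => ?_) j
      · rw [Fin.succ_succAbove_zero, Fin.cons_zero, Fin.cons_zero]
        have e : t.left ≫ nerveBase a A (n + 1) = (t ≫ face a A n i).left ≫ nerveBase a A n :=
          ((Category.assoc _ _ _).trans (congrArg (t.left ≫ ·) (nerveMap_base a A i.succAbove))).symm
        exact Option.some.inj ((hsσ (n + 1) t).symm.trans ((congrArg σ e).trans (hsσ n _)))
      · rw [Fin.succ_succAbove_succ, Fin.cons_succ, Fin.cons_succ, Category.assoc, nerveMap_pr]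
  have key : ∀ y : (freeY R₀ (nerveObj a A (k + 1))).obj (op V),
      (freeYD R₀ a A (k + 1)).app (op V) (h (k + 1) y) + h k ((freeYD R₀ a A k).app (op V) y) = y := by
    refine fun y => ConcreteCategory.congr_hom (?_ : h (k + 1) ≫ (freeYD R₀ a A (k + 1)).app (op V) +
      (freeYD R₀ a A k).app (op V) ≫ h k = 𝟙 _) y
    refine freeY_hom_ext fun t => ?_
    change (freeYD R₀ a A (k + 1)).app (op V) (h (k + 1) (genY R₀ t)) +
      h k ((freeYD R₀ a A k).app (op V) (genY R₀ t)) = genY R₀ t
    rw [hh, freeYD_gen, freeYD_gen, map_sum, Fin.sum_univ_succ, h0, Fin.val_zero, pow_zero, one_smul, add_assoc,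
      ← Finset.sum_add_distrib, Finset.sum_eq_zero (fun i _ => ?_), add_zero]
    rw [map_zsmul, hh, hsucc, Fin.val_succ, pow_succ, ← add_smul, mul_neg_one, neg_add_cancel, zero_smul]
  refine ⟨h (k + 1) x, ?_⟩
  have := key x
  rw [hx, map_zero, add_zero] at this
  exact this

variable {R₀}

/-- Injective presheaves of modules are acyclic on nerves. -/
theorem nerveExact_of_injective_module (I : PresheafOfModules.{u + 1} R₀) [Injective I] :
    NerveExact a A I.presheaf := by
  intro k x hx
  generalize hdef : chiY I (show I.obj (op (nerveObj a A (k + 1))) from x) = χ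
  have hχ : ∀ {V : Over S} (t : V ⟶ nerveObj a A (k + 1)),
      χ.app (op V) (genY R₀ t) = I.presheaf.map t.op x := fun t => hdef ▸ chiY_gen I _ t
  have hz : freeYD R₀ a A (k + 1) ≫ χ = 0 := by
    refine PresheafOfModules.hom_ext fun V => ?_
    obtain ⟨V⟩ := V
    refine freeY_hom_ext fun t => ?_
    change χ.app (op V) ((freeYD R₀ a A (k + 1)).app (op V) (genY R₀ t)) = 0
    rw [freeYD_gen, map_sum]
    have e := congrArg (I.presheaf.map t.op) hx
    rw [nerveD_apply, map_sum, map_zero] at e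
    refine Eq.trans (Finset.sum_congr rfl fun i _ => ?_) e
    rw [map_zsmul, map_zsmul, hχ]
    exact congrArg _ (ConcreteCategory.congr_hom (I.presheaf.map_comp (face a A (k + 1) i).op t.op) x)
  obtain ⟨ψ, hψ⟩ : ∃ ψ : freeY R₀ (nerveObj a A k) ⟶ I, freeYD R₀ a A k ≫ ψ = χ :=
    ⟨_, (freeYCx_exact R₀ a A k).comp_descToInjective χ hz⟩
  refine ⟨ψ.app (op (nerveObj a A k)) (genY R₀ (𝟙 (nerveObj a A k))), ?_⟩
  have h1 : χ.app (op (nerveObj a A (k + 1))) (genY R₀ (𝟙 (nerveObj a A (k + 1)))) = x :=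
    (hχ (𝟙 _)).trans (ConcreteCategory.congr_hom (I.presheaf.map_id (op (nerveObj a A (k + 1)))) x)
  have h2 : ψ.app (op (nerveObj a A (k + 1)))
      ((freeYD R₀ a A k).app _ (genY R₀ (𝟙 (nerveObj a A (k + 1))))) = x :=
    (ConcreteCategory.congr_hom (congrArg (fun m => PresheafOfModules.Hom.app m (op (nerveObj a A (k + 1)))) hψ)
      (genY R₀ (𝟙 (nerveObj a A (k + 1))))).trans h1
  rw [freeYD_gen, map_sum] at h2
  refine Eq.trans ?_ h2
  rw [nerveD_apply]
  refine Finset.sum_congr rfl fun i _ => ?_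
  rw [map_zsmul]
  refine congrArg (fun z : I.obj (op (nerveObj a A (k + 1))) => (-1 : ℤ) ^ (i : ℕ) • z)
    ((PresheafOfModules.naturality_apply ψ (face a A k i).op (genY R₀ (𝟙 (nerveObj a A k)))).symm.trans ?_)
  refine congrArg (ψ.app _) ((ModuleCat.freeDesc_apply _ _).trans ?_)
  exact congrArg (fun t : nerveObj a A (k + 1) ⟶ nerveObj a A k => genY R₀ t)
    ((Category.comp_id (face a A k i)).trans (Category.id_comp (face a A k i)).symm)

end Nerve

variable {K : Precoverage Scheme.{u}} [BigSite.OSh K]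

/-- The presheaf of an injective sheaf of modules is injective. -/
theorem injective_val (I : BigSite.Mod K S) [Injective I] : Injective I.val := by
  haveI : (PresheafOfModules.sheafification.{u + 1} (𝟙 (BigSite.ORing K S).obj)).PreservesMonomorphisms :=
    preservesMonomorphisms_of_preservesLimitsOfShape _
  exact Injective.injective_of_adjoint (PresheafOfModules.sheafificationAdjunction.{u + 1} (𝟙 _)) I

end Groth.Agent.H02CA.Adq
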