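import Groth.Agent.H02CA.Adeq.Push.OpenFam
import Groth.Agent.H02CA.Adeq.Push.InjMod
import Groth.Agent.H02CA.Adeq.Ext
import Mathlib.Algebra.Homology.HomologicalComplexBiprod
import Mathlib.Algebra.Homology.HomologicalComplexAbelian
import Mathlib.Algebra.Homology.HomologySequence

/-!
# The Mayer-Vietoris induction step
-/

set_option autoImplicit false
set_option linter.style.haveILetI false

universe u

open CategoryTheory Opposite Limits TensorProduct AlgebraicGeometry MorphismProperty

namespace Groth.Agent.H02CA.Adq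

open Adeq
open scoped ZeroObject

/-- Properties of module valued functors stable under five term exact sequences. -/
structure QClass {R : Type u} [CommRing R] (Φ : MVF R → Prop) : Prop where
  iso : ∀ {F G : MVF R}, (F ≅ G) → Φ F → Φ G
  zero : ∀ {F : MVF R}, IsZero F → Φ F
  five : ∀ {A B C D E : MVF R} (p : A ⟶ B) (q : B ⟶ C) (r : C ⟶ D) (s : D ⟶ E) (hpq : p ≫ q = 0)
    (hqr : q ≫ r = 0) (hrs : r ≫ s = 0), (ShortComplex.mk p q hpq).Exact → (ShortComplex.mk q r hqr).Exact →
      (ShortComplex.mk r s hrs).Exact → Φ A → Φ B → Φ D → Φ E → Φ C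

lemma QClass.biprod {R : Type u} [CommRing R] {Φ : MVF R → Prop} (hΦ : QClass Φ) {F G : MVF R} (hF : Φ F)
    (hG : Φ G) : Φ (F ⊞ G) := by
  have h : (ShortComplex.mk (biprod.inl : F ⟶ F ⊞ G) biprod.snd biprod.inl_snd).Exact :=
    (ShortComplex.Splitting.ofHasBinaryBiproduct F G).exact
  refine hΦ.five (0 : F ⟶ F) (biprod.inl : F ⟶ F ⊞ G) biprod.snd (0 : G ⟶ G) zero_comp biprod.inl_snd comp_zero
    ?_ h ?_ hF hF hG hG
  · rw [ShortComplex.exact_iff_mono _ rfl]
    exact inferInstanceAs (Mono biprod.inl)
  · rw [ShortComplex.exact_iff_epi _ rfl]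
    exact inferInstanceAs (Epi biprod.snd)

/-- Adequate functors form such a property. -/
theorem qClass_adequate (R : Type u) [CommRing R] : QClass (R := R) (fun F => adequate R F) where
  iso e h := (adequate R).prop_of_iso e h
  zero {F} h := by
    obtain ⟨e⟩ : Nonempty ((⨁ fun i : Fin 0 => i.elim0 : MVF R) ≅ F) :=
      ⟨((IsZero.iff_id_eq_zero _).2 (biproduct.hom_ext' _ _ fun i => i.elim0)).iso h⟩
    exact (adequate R).prop_of_iso e (adequate_finite_biproduct _ fun i => i.elim0)
  five {A B C D E} p q r s hpq hqr hrs h₁ h₂ h₃ hA hB hD hE := by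
    let i : cokernel p ⟶ C := cokernel.desc p q hpq
    let j : C ⟶ kernel s := kernel.lift s r hrs
    haveI : Mono i := h₁.mono_cokernelDesc
    haveI : Epi j := h₃.epi_kernelLift
    have hij : i ≫ j = 0 := by
      rw [← cancel_epi (cokernel.π p), ← cancel_mono (kernel.ι s)]
      simp [i, j, hqr]
    have hir : i ≫ r = 0 := by
      rw [← cancel_epi (cokernel.π p)]
      simp [i, hqr]
    let φ : ShortComplex.mk q r hqr ⟶ ShortComplex.mk i r hir :=
      { τ₁ := cokernel.π p
        τ₂ := 𝟙 C
        τ₃ := 𝟙 D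
        comm₁₂ := by simp [i]
        comm₂₃ := by simp }
    let ψ : ShortComplex.mk i j hij ⟶ ShortComplex.mk i r hir :=
      { τ₁ := 𝟙 _
        τ₂ := 𝟙 _
        τ₃ := kernel.ι s
        comm₁₂ := by simp
        comm₂₃ := by simp [j] }
    haveI : Epi φ.τ₁ := inferInstanceAs (Epi (cokernel.π p))
    haveI : IsIso φ.τ₂ := inferInstanceAs (IsIso (𝟙 C))
    haveI : Mono φ.τ₃ := inferInstanceAs (Mono (𝟙 D))
    haveI : Epi ψ.τ₁ := inferInstanceAs (Epi (𝟙 _))
    haveI : IsIso ψ.τ₂ := inferInstanceAs (IsIso (𝟙 C))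
    haveI : Mono ψ.τ₃ := inferInstanceAs (Mono (kernel.ι s))
    have hex : (ShortComplex.mk i j hij).Exact :=
      (ShortComplex.exact_iff_of_epi_of_isIso_of_mono ψ).2 ((ShortComplex.exact_iff_of_epi_of_isIso_of_mono φ).1 h₂)
    exact adequate_extension _ { exact := hex, mono_f := (inferInstance : Mono i), epi_g := (inferInstance : Epi j) }
      (adequate_cokernel p hA hB) (adequate_kernel s hD hE)

/-- Vanishing at an algebra forms such a property. -/
theorem qClass_subsingleton {R : Type u} [CommRing R] (B₀ : Alg R) :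
    QClass (R := R) (fun F => Subsingleton (F.obj (pt B₀))) where
  iso {F G} e h := by
    haveI : Subsingleton ((ev B₀).obj F) := h
    exact ((ev B₀).mapIso e).toLinearEquiv.toEquiv.symm.subsingleton
  zero h := ModuleCat.subsingleton_of_isZero ((ev B₀).map_isZero h)
  five {A B C D E} p q r s hpq hqr hrs _ h₂ _ _ hB hD _ := by
    refine subsingleton_of_forall_eq 0 fun x => ?_
    obtain ⟨y, hy⟩ := (ShortComplex.moduleCat_exact_iff _).1 (h₂.map (ev B₀)) x
      (@Subsingleton.elim _ hD _ _)
    rw [← hy, @Subsingleton.elim _ hB y 0]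
    exact map_zero _

section

variable {P : MorphismProperty Scheme.{u}} [GoodCov P] [BigSite.OSh (Scheme.precoverage P)]
variable {S T : Scheme.{u}} (f : T ⟶ S) {R : CommRingCat.{u}} (a : Spec R ⟶ S)
variable (C : CochainComplex (BigSite.Mod (Scheme.precoverage P) T) ℕ)

/-- The complexes of sections over an open. -/
noncomputable abbrev cxOpen (U : (pullback a f).Opens) : CochainComplex (MVF R) ℕ :=
  ((GmOpen f a U).mapHomologicalComplex _).obj C

/-- Restriction of complexes of sections. -/
noncomputable abbrev cxRes {U V : (pullback a f).Opens} (h : U ≤ V) : cxOpen f a C V ⟶ cxOpen f a C U :=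
  (NatTrans.mapHomologicalComplex (GmRes f a h) _).app C

variable (U V : (pullback a f).Opens)

/-- The Mayer-Vietoris complexes. -/
noncomputable abbrev mvSeq : ShortComplex (CochainComplex (MVF R) ℕ) :=
  ShortComplex.mk (biprod.lift (cxRes f a C (le_sup_left : U ≤ U ⊔ V)) (cxRes f a C (le_sup_right : V ≤ U ⊔ V)))
    (biprod.desc (cxRes f a C (inf_le_left : U ⊓ V ≤ U)) (-cxRes f a C (inf_le_right : U ⊓ V ≤ V))) (by
      rw [biprod.lift_desc, Preadditive.comp_neg, ← sub_eq_add_neg, sub_eq_zero]
      ext n : 1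
      refine hom_ext fun B x => ((openFam f a (U ⊓ V)).val (C.X n).val B).injective ?_
      change tr (C.X n).val _ (tr (C.X n).val _ _) = tr (C.X n).val _ (tr (C.X n).val _ _)
      rw [tr_comp, tr_comp, ← NatTrans.comp_app, ← NatTrans.comp_app, openRes_comp, openRes_comp])

variable {U V}

lemma openPair_mem_J (B : Alg R) :
    Sieve.ofArrows (fun b : Bool => (openFam f a (cond b U V)).X.obj (op B))
      (fun b => (openRes f a (show cond b U V ≤ U ⊔ V by cases b <;> simp)).app (op B)) ∈
      QuotSh.J (Scheme.precoverage P) T ((openFam f a (U ⊔ V)).X.obj (op B)) := by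
  have hle : ∀ b : Bool, cond b U V ≤ U ⊔ V := fun b => by cases b <;> simp
  refine ofArrows_mem_J _ (fun b => ?_) fun x => ?_
  · haveI : IsOpenImmersion (((openRes f a (hle b)).app (op B)).left ≫
        ((openIncl f a (U ⊔ V)).app (op B)).left) := by
      rw [← Over.comp_left, ← NatTrans.comp_app, openRes_incl]
      infer_instance
    exact IsOpenImmersion.of_comp _ ((openIncl f a (U ⊔ V)).app (op B)).left
  · have hx : pullBase f a B (((openIncl f a (U ⊔ V)).app (op B)).left x) ∈ U ⊔ V :=
      (Set.ext_iff.1 (range_openIncl f a (U ⊔ V) B) _).1 ⟨x, rfl⟩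
    obtain ⟨b, hb⟩ : ∃ b : Bool, pullBase f a B (((openIncl f a (U ⊔ V)).app (op B)).left x) ∈ cond b U V := by
      rcases hx with h | h
      · exact ⟨true, h⟩
      · exact ⟨false, h⟩
    obtain ⟨y, hy⟩ := (Set.ext_iff.1 (range_openIncl f a (cond b U V) B) _).2 hb
    refine ⟨b, y, (openIncl_open f a (U ⊔ V) B).base_open.injective ?_⟩
    exact (Scheme.Hom.comp_apply ((openRes f a _).app (op B)).left
      ((openIncl f a (U ⊔ V)).app (op B)).left y).symm.trans
        ((congrArg (fun m => m.left y) (NatTrans.congr_app (openRes_incl f a _) (op B))).trans hy)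

lemma biprod_ext_apply {K L : CochainComplex (MVF R) ℕ} (n : ℕ) (B : Alg R) (z : ((K ⊞ L).X n).obj (pt B)) :
    z = ((biprod.inl : K ⟶ K ⊞ L).f n).app (pt B) (((biprod.fst : K ⊞ L ⟶ K).f n).app (pt B) z) +
      ((biprod.inr : L ⟶ K ⊞ L).f n).app (pt B) (((biprod.snd : K ⊞ L ⟶ L).f n).app (pt B) z) := by
  have h := congrArg (fun m : K ⊞ L ⟶ K ⊞ L => (m.f n).app (pt B) z) (biprod.total (X := K) (Y := L))
  exact h.symm

lemma biprod_apply {K L M : CochainComplex (MVF R) ℕ} {φ : K ⟶ L} {ψ : L ⟶ M} {χ : K ⟶ M} (h : φ ≫ ψ = χ)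
    (n : ℕ) (B : Alg R) (z : (K.X n).obj (pt B)) :
    (ψ.f n).app (pt B) ((φ.f n).app (pt B) z) = (χ.f n).app (pt B) z :=
  congrArg (fun m : K ⟶ M => (m.f n).app (pt B) z) h

/-- The Mayer-Vietoris sequence. -/
theorem shortExact_mvSeq [∀ n, Injective (C.X n)] : (mvSeq f a C U V).ShortExact := by
  refine HomologicalComplex.shortExact_of_degreewise_shortExact _ fun n => ?_
  let I := C.X n
  haveI : Injective I.val := injective_val I
  have hfst : ∀ (B : Alg R) (x : ((cxOpen f a C (U ⊔ V)).X n).obj (pt B)),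
      ((biprod.fst : _ ⊞ cxOpen f a C V ⟶ _).f n).app (pt B) (((mvSeq f a C U V).f.f n).app (pt B) x) =
        ((cxRes f a C (le_sup_left : U ≤ U ⊔ V)).f n).app (pt B) x :=
    fun B x => biprod_apply (biprod.lift_fst _ _) n B x
  have hsnd : ∀ (B : Alg R) (x : ((cxOpen f a C (U ⊔ V)).X n).obj (pt B)),
      ((biprod.snd : cxOpen f a C U ⊞ _ ⟶ _).f n).app (pt B) (((mvSeq f a C U V).f.f n).app (pt B) x) =
        ((cxRes f a C (le_sup_right : V ≤ U ⊔ V)).f n).app (pt B) x :=
    fun B x => biprod_apply (biprod.lift_snd _ _) n B x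
  have hg : ∀ (B : Alg R) (z : (((mvSeq f a C U V).X₂).X n).obj (pt B)),
      ((mvSeq f a C U V).g.f n).app (pt B) z =
        ((cxRes f a C (inf_le_left : U ⊓ V ≤ U)).f n).app (pt B)
          (((biprod.fst : _ ⊞ cxOpen f a C V ⟶ _).f n).app (pt B) z) -
        ((cxRes f a C (inf_le_right : U ⊓ V ≤ V)).f n).app (pt B)
          (((biprod.snd : cxOpen f a C U ⊞ _ ⟶ _).f n).app (pt B) z) := fun B z => by
    conv_lhs => rw [biprod_ext_apply n B z]
    refine (map_add _ _ _).trans ((congrArg₂ (· + ·) (biprod_apply (biprod.inl_desc _ _) n B _)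
      (biprod_apply (biprod.inr_desc _ _) n B _)).trans ?_)
    rw [sub_eq_add_neg]
    rfl
  refine { exact := ?_, mono_f := ?_, epi_g := ?_ }
  · refine exact_of_eval (C := (Alg R)ᵒᵖ) (Q := ringOf (R : Type u)) _ fun X => ?_
    obtain ⟨⟨B⟩⟩ := X
    rw [ShortComplex.moduleCat_exact_iff]
    intro z hz
    have hz' : ((cxRes f a C (inf_le_left : U ⊓ V ≤ U)).f n).app (pt B)
          (((biprod.fst : _ ⊞ cxOpen f a C V ⟶ _).f n).app (pt B) z) =
        ((cxRes f a C (inf_le_right : U ⊓ V ≤ V)).f n).app (pt B)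
          (((biprod.snd : cxOpen f a C U ⊞ _ ⟶ _).f n).app (pt B) z) := sub_eq_zero.1 ((hg B z).symm.trans hz)
    let y : ∀ b : Bool, I.val.obj (op ((openFam f a (cond b U V)).X.obj (op B))) := fun b => match b with
      | true => (openFam f a U).val I.val B (((biprod.fst : _ ⊞ cxOpen f a C V ⟶ _).f n).app (pt B) z)
      | false => (openFam f a V).val I.val B (((biprod.snd : cxOpen f a C U ⊞ _ ⟶ _).f n).app (pt B) z)
    obtain ⟨x, hx⟩ := exists_glue_of_mem_J I _ (openPair_mem_J (P := P) f a (U := U) (V := V) B) y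
      fun b b' Z r r' hrr => by
        have hincl : ∀ (W : (pullback a f).Opens) (_ : W ≤ U ⊔ V), Mono ((openIncl f a W).app (op B)) := fun W _ => by
          haveI : Mono ((Over.forget T).map ((openIncl f a W).app (op B))) :=
            inferInstanceAs (Mono (preOpen f a W B).ι)
          exact (Over.forget T).mono_of_mono_map this
        have hq : r ≫ (openIncl f a (cond b U V)).app (op B) = r' ≫ (openIncl f a (cond b' U V)).app (op B) := by
          have h := congrArg (· ≫ (openIncl f a (U ⊔ V)).app (op B)) hrr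
          simpa only [Category.assoc, ← NatTrans.comp_app, openRes_incl] using h
        have hcross : ∀ (r : Z ⟶ (openFam f a U).X.obj (op B)) (r' : Z ⟶ (openFam f a V).X.obj (op B)),
            r ≫ (openIncl f a U).app (op B) = r' ≫ (openIncl f a V).app (op B) →
              tr I.val r (y true) = tr I.val r' (y false) := by
          intro r r' hq
          have hr : Set.range (r ≫ (openIncl f a U).app (op B)).left ⊆
              Set.range ((openIncl f a (U ⊓ V)).app (op B)).left := by
            rw [range_openIncl]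
            rintro _ ⟨t, rfl⟩
            refine ⟨?_, ?_⟩
            · exact (Set.ext_iff.1 (range_openIncl f a U B) _).1 ⟨r.left t, rfl⟩
            · rw [hq]
              exact (Set.ext_iff.1 (range_openIncl f a V B) _).1 ⟨r'.left t, rfl⟩
          let s : Z ⟶ (openFam f a (U ⊓ V)).X.obj (op B) :=
            Over.homMk (IsOpenImmersion.lift ((openIncl f a (U ⊓ V)).app (op B)).left
              (r ≫ (openIncl f a U).app (op B)).left hr) (by
              rw [← Over.w ((openIncl f a (U ⊓ V)).app (op B)), IsOpenImmersion.lift_fac_assoc]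
              exact Over.w _)
          have hs : s ≫ (openIncl f a (U ⊓ V)).app (op B) = r ≫ (openIncl f a U).app (op B) :=
            Over.OverMorphism.ext (IsOpenImmersion.lift_fac _ _ hr)
          haveI := hincl U le_sup_left
          haveI := hincl V le_sup_right
          have h1 : r = s ≫ (openRes f a (inf_le_left : U ⊓ V ≤ U)).app (op B) := by
            rw [← cancel_mono ((openIncl f a U).app (op B)), Category.assoc, ← NatTrans.comp_app, openRes_incl, hs]
          have h2 : r' = s ≫ (openRes f a (inf_le_right : U ⊓ V ≤ V)).app (op B) := by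
            rw [← cancel_mono ((openIncl f a V).app (op B)), Category.assoc, ← NatTrans.comp_app, openRes_incl, hs, hq]
          rw [h1, h2, ← tr_comp, ← tr_comp]
          exact congrArg (tr I.val s) (congrArg ((openFam f a (U ⊓ V)).val I.val B) hz')
        cases b <;> cases b'
        · haveI := hincl V le_sup_right
          rw [(cancel_mono ((openIncl f a V).app (op B))).1 hq]
        · exact (hcross r' r hq.symm).symm
        · exact hcross r r' hq
        · haveI := hincl U le_sup_left
          rw [(cancel_mono ((openIncl f a U).app (op B))).1 hq]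
    refine ⟨((openFam f a (U ⊔ V)).val I.val B).symm x, ?_⟩
    change ((mvSeq f a C U V).f.f n).app (pt B) _ = z
    rw [biprod_ext_apply n B z, biprod_ext_apply n B (((mvSeq f a C U V).f.f n).app (pt B) _), hfst, hsnd]
    exact congrArg₂ (· + ·) (congrArg _ (((openFam f a U).val I.val B).injective (hx true)))
      (congrArg _ (((openFam f a V).val I.val B).injective (hx false)))
  · refine (mono_iff_injective _).2 fun B => (injective_iff_map_eq_zero _).2 fun x hx => ?_
    have h1 := (hfst B x).symm.trans ((congrArg _ hx).trans (map_zero _))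
    have h2 := (hsnd B x).symm.trans ((congrArg _ hx).trans (map_zero _))
    refine ((openFam f a (U ⊔ V)).val I.val B).injective
      (eq_of_locally I (openPair_mem_J (P := P) f a (U := U) (V := V) B) _ _ ?_)
    rintro W g ⟨_, l, _, ⟨b⟩, rfl⟩
    rw [← tr_comp, ← tr_comp]
    refine congrArg (tr I.val l) ?_
    cases b
    · exact (congrArg ((openFam f a V).val I.val B) h2).trans ((map_zero _).trans (map_zero _).symm)
    · exact (congrArg ((openFam f a U).val I.val B) h1).trans ((map_zero _).trans (map_zero _).symm)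
  · refine (epi_iff_surjective _).2 fun B w => ?_
    haveI := mono_openRes f a (inf_le_left : U ⊓ V ≤ U) B
    obtain ⟨v, hv⟩ := surjective_map_of_mono I.val ((openRes f a (inf_le_left : U ⊓ V ≤ U)).app (op B))
      ((openFam f a (U ⊓ V)).val I.val B w)
    refine ⟨((biprod.inl : _ ⟶ _ ⊞ cxOpen f a C V).f n).app (pt B) (((openFam f a U).val I.val B).symm v), ?_⟩
    refine (biprod_apply (biprod.inl_desc _ _) n B _).trans ?_
    exact ((openFam f a (U ⊓ V)).val I.val B).injective hv

/-- The induction step. -/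
theorem mv_step [∀ n, Injective (C.X n)] {Φ : MVF R → Prop} (hΦ : QClass Φ)
    (hU : ∀ n, Φ ((cxOpen f a C U).homology n)) (hV : ∀ n, Φ ((cxOpen f a C V).homology n))
    (hI : ∀ n, Φ ((cxOpen f a C (U ⊓ V)).homology n)) (n : ℕ) :
    Φ ((cxOpen f a C (U ⊔ V)).homology n) := by
  have hS := shortExact_mvSeq f a C (U := U) (V := V)
  have h2 : ∀ n, Φ ((mvSeq f a C U V).X₂.homology n) := fun n =>
    by
      haveI := preservesBinaryBiproducts_of_preservesBiproducts
        (HomologicalComplex.homologyFunctor (MVF R) (ComplexShape.up ℕ) n)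
      exact hΦ.iso ((HomologicalComplex.homologyFunctor (MVF R) _ n).mapBiprod _ _).symm (hΦ.biprod (hU n) (hV n))
  cases n with
  | zero =>
    haveI := hS.mono_f
    haveI : Mono (HomologicalComplex.homologyMap (mvSeq f a C U V).f 0) := by
      haveI : Mono ((mvSeq f a C U V).f.f 0) :=
        inferInstanceAs (Mono ((HomologicalComplex.eval _ _ 0).map (mvSeq f a C U V).f))
      haveI : Mono (HomologicalComplex.cyclesMap (mvSeq f a C U V).f 0) :=
        mono_of_mono_fac (HomologicalComplex.cyclesMap_i (mvSeq f a C U V).f 0)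
      have e : HomologicalComplex.homologyMap (mvSeq f a C U V).f 0 =
          inv ((mvSeq f a C U V).X₁.homologyπ 0) ≫ HomologicalComplex.cyclesMap (mvSeq f a C U V).f 0 ≫
            (mvSeq f a C U V).X₂.homologyπ 0 := by
        rw [← HomologicalComplex.homologyπ_naturality, IsIso.inv_hom_id_assoc]
      rw [e]
      infer_instance
    exact hΦ.five (0 : (0 : MVF R) ⟶ 0) (0 : (0 : MVF R) ⟶ _)
      (HomologicalComplex.homologyMap (mvSeq f a C U V).f 0) (HomologicalComplex.homologyMap (mvSeq f a C U V).g 0)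
      zero_comp zero_comp (by rw [← HomologicalComplex.homologyMap_comp, (mvSeq f a C U V).zero,
        HomologicalComplex.homologyMap_zero]) (ShortComplex.exact_of_isZero_X₂ _ (isZero_zero _))
      ((ShortComplex.exact_iff_mono _ rfl).2 inferInstance) (hS.homology_exact₂ 0)
      (hΦ.zero (isZero_zero _)) (hΦ.zero (isZero_zero _)) (h2 0) (hI 0)
  | succ n =>
    exact hΦ.five (HomologicalComplex.homologyMap (mvSeq f a C U V).g n) (hS.δ n (n + 1) rfl)
      (HomologicalComplex.homologyMap (mvSeq f a C U V).f (n + 1))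
      (HomologicalComplex.homologyMap (mvSeq f a C U V).g (n + 1))
      (hS.comp_δ n (n + 1) rfl) (hS.δ_comp n (n + 1) rfl) _ (hS.homology_exact₃ n (n + 1) rfl)
      (hS.homology_exact₁ n (n + 1) rfl) (hS.homology_exact₂ (n + 1)) (h2 n) (hI n) (h2 (n + 1)) (hI (n + 1))

end

end Groth.Agent.H02CA.Adq
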