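import Groth.Agent.H02CA.Adeq.Push.MV
import Groth.Agent.H02CA.Adeq.Push.AffineExact
import Mathlib.Algebra.Homology.ShortComplex.HomologicalComplex

/-!
# Cohomology over base changes by Mayer-Vietoris induction
-/

set_option autoImplicit false
set_option linter.style.haveILetI false

universe u

open CategoryTheory Opposite Limits TensorProduct AlgebraicGeometry MorphismProperty

namespace Groth.Agent.H02CA.Adq

open Adeq
open scoped ZeroObject

variable {P : MorphismProperty Scheme.{u}} [GoodCov P] [BigSite.OSh (Scheme.precoverage P)]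
variable {S T : Scheme.{u}} (f : T ⟶ S) {R : CommRingCat.{u}} (a : Spec R ⟶ S)

section Chart

variable {W : (pullback a f).Opens} (hW : IsAffineOpen W) [Algebra R Γ(pullback a f, W)]
  (hw : hW.fromSpec ≫ pullback.fst a f = algMap' R Γ(pullback a f, W))

include hw in
lemma range_chartMap_open (B : Alg R) :
    Set.range ((chartMap f a Γ(pullback a f, W) hW.fromSpec hw).app (op B)).left =
      (pullBase f a B) ⁻¹' (W : Set ↥(pullback a f)) := by
  apply Set.Subset.antisymm
  · rintro _ ⟨z, rfl⟩
    have hr : Set.range hW.fromSpec ⊆ (W : Set ↥(pullback a f)) := hW.range_fromSpec.subset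
    refine hr ⟨chartLeft Γ(pullback a f, W) (hW.fromSpec ≫ pullback.snd a f) B z, ?_⟩
    rw [← Scheme.Hom.comp_apply, ← chartMap_base f a _ hW.fromSpec hw B]
    rfl
  · intro x hx
    obtain ⟨y, hy⟩ := hW.range_fromSpec.ge hx
    exact mem_range_chartMap f a _ hW.fromSpec hw x y hy.symm

include hw in
lemma isAffineOpen_preOpen (B : Alg R) : IsAffineOpen (preOpen f a W B) := by
  haveI := isOpenImmersion_chartMap f a _ hW.fromSpec hw B
  haveI : IsAffine ((chartFam Γ(pullback a f, W) (hW.fromSpec ≫ pullback.snd a f)).X.obj (op B)).left :=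
    isAffine_Spec (CommRingCat.of (Γ(pullback a f, W) ⊗[R] (B : Type u)))
  have h : ((chartMap f a Γ(pullback a f, W) hW.fromSpec hw).app (op B)).left.opensRange = preOpen f a W B :=
    TopologicalSpace.Opens.ext (range_chartMap_open f a hW hw B)
  rw [← h]
  exact isAffineOpen_opensRange _

include hw in
/-- Sections over an affine open are sections over a chart. -/
theorem nonempty_gmod_open_iso_chart (M : BigSite.Mod (Scheme.precoverage P) T) :
    Nonempty ((openFam f a W).gmod M.val ≅
      (chartFam (R := R) Γ(pullback a f, W) (hW.fromSpec ≫ pullback.snd a f)).gmod M.val) := by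
  let c := chartMap f a Γ(pullback a f, W) hW.fromSpec hw
  have hco : ∀ B, IsOpenImmersion (c.app (op B)).left := isOpenImmersion_chartMap f a _ hW.fromSpec hw
  have hr := range_chartMap_open f a hW hw
  obtain ⟨γ, hγ, hγ'⟩ := exists_factor (𝔓 := pullFam f a) c (openIncl f a W)
    (chartMap_fst f a _ hW.fromSpec hw) (openIncl_pr f a W) (fun B => inferInstance) fun B =>
      ⟨IsOpenImmersion.lift _ _ ((hr B).trans (range_openIncl f a W B).symm).subset,
        IsOpenImmersion.lift_fac _ _ _⟩
  obtain ⟨δ, hδ, hδ'⟩ := exists_factor (𝔓 := pullFam f a) (openIncl f a W) c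
    (openIncl_pr f a W) (chartMap_fst f a _ hW.fromSpec hw) (fun B => by
      haveI := hco B
      infer_instance) fun B => by
      haveI := hco B
      exact ⟨IsOpenImmersion.lift _ _ ((range_openIncl f a W B).trans (hr B).symm).subset,
        IsOpenImmersion.lift_fac _ _ _⟩
  have h1 : ∀ B, γ.app (op B) ≫ δ.app (op B) = 𝟙 _ := fun B => by
    apply Over.OverMorphism.ext
    haveI := hco B
    refine (cancel_mono (c.app (op B)).left).1 ?_
    refine congrArg CommaMorphism.left (?_ : (γ.app (op B) ≫ δ.app (op B)) ≫ c.app (op B) = 𝟙 _ ≫ c.app (op B))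
    rw [Category.assoc, ← NatTrans.comp_app, hδ, ← NatTrans.comp_app, hγ, Category.id_comp]
  have h2 : ∀ B, δ.app (op B) ≫ γ.app (op B) = 𝟙 _ := fun B => by
    apply Over.OverMorphism.ext
    refine (cancel_mono ((openIncl f a W).app (op B)).left).1 ?_
    refine congrArg CommaMorphism.left
      (?_ : (δ.app (op B) ≫ γ.app (op B)) ≫ (openIncl f a W).app (op B) = 𝟙 _ ≫ (openIncl f a W).app (op B))
    rw [Category.assoc, ← NatTrans.comp_app, hγ, ← NatTrans.comp_app, hδ, Category.id_comp]
  haveI : IsIso (TFam.gmap M.val γ hγ') := isIso_of_bijective _ fun B =>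
    (tr_iso_bijective M.val ⟨γ.app (op B), δ.app (op B), h1 B, h2 B⟩).comp
      ((openFam f a W).val M.val B).bijective
  exact ⟨asIso (TFam.gmap M.val γ hγ')⟩

end Chart

variable {M : BigSite.Mod (Scheme.precoverage P) T} (I : InjectiveResolution M)

/-- The degree zero cohomology of sections along a family. -/
theorem nonempty_homology_zero (𝔛 : TFam R T) :
    Nonempty ((((Gm 𝔛).mapHomologicalComplex _).obj I.cocomplex).homology 0 ≅ 𝔛.gmod M.val) := by
  let L := ((Gm 𝔛).mapHomologicalComplex (ComplexShape.up ℕ)).obj I.cocomplex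
  obtain ⟨e⟩ := nonempty_iso_kernel (K := 𝔛.gmod M.val) ((Gm 𝔛).map (I.ι.f 0)) (L.d 0 1)
    (by
      change (Gm 𝔛).map (I.ι.f 0) ≫ (Gm 𝔛).map (I.cocomplex.d 0 1) = 0
      rw [← Functor.map_comp, I.ι_f_zero_comp_complex_d, Functor.map_zero])
    (fun B => by
      have hm : Mono ((SheafOfModules.forget _ ⋙
          PresheafOfModules.evaluation _ (op (𝔛.X.obj (op B)))).map (I.ι.f 0)) := inferInstance
      have hi := (ModuleCat.mono_iff_injective _).1 hm
      exact fun x y h => hi h)
    (fun B x hx => by
      have hS : (ShortComplex.mk (I.ι.f 0) (I.cocomplex.d 0 1) I.ι_f_zero_comp_complex_d).Exact :=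
        ShortComplex.exact_of_f_is_kernel _ I.isLimitKernelFork
      haveI : Mono (ShortComplex.mk (I.ι.f 0) (I.cocomplex.d 0 1) I.ι_f_zero_comp_complex_d).f :=
        inferInstanceAs (Mono (I.ι.f 0))
      exact (ShortComplex.moduleCat_exact_iff _).1
        (hS.map_of_mono_of_preservesKernel (SheafOfModules.forget _ ⋙
          PresheafOfModules.evaluation _ (op (𝔛.X.obj (op B)))) inferInstance inferInstance) x hx)
  exact ⟨(CochainComplex.isoHomologyπ₀ L).symm ≪≫ IsLimit.conePointUniqueUpToIso (L.cyclesIsKernel 0 1 (CochainComplex.next ℕ 0))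
    (limit.isLimit _) ≪≫ e.symm⟩

variable {Φ : MVF R → Prop} (hΦ : QClass Φ)

include hΦ in
/-- The property over affine opens. -/
theorem coh_affine (hflat : ∀ {X Y : Scheme.{u}} (f : X ⟶ Y), P f → Flat f)
    (hM : adequateMod (Scheme.precoverage P) T M) (W : (pullback a f).Opens) (hW : IsAffineOpen W)
    (hbase : Φ ((openFam f a W).gmod M.val)) (n : ℕ) :
    Φ ((cxOpen f a I.cocomplex W).homology n) := by
  cases n with
  | zero => exact hΦ.iso (nonempty_homology_zero I (openFam f a W)).some.symm hbase
  | succ n =>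
    letI : Algebra R Γ(pullback a f, W) := (Spec.preimage (hW.fromSpec ≫ pullback.fst a f)).hom.toAlgebra
    refine hΦ.zero (HomologicalComplex.ExactAt.isZero_homology ?_)
    rw [HomologicalComplex.exactAt_iff' _ n (n + 1) (n + 2) (by simp) (by simp)]
    refine exact_of_eval (C := (Alg R)ᵒᵖ) (Q := ringOf (R : Type u)) _ fun X => ?_
    obtain ⟨⟨B⟩⟩ := X
    rw [ShortComplex.moduleCat_exact_iff]
    intro x hx
    haveI : IsAffine ((openFam f a W).X.obj (op B)).left :=
      isAffineOpen_preOpen f a hW (Spec.map_preimage _).symm B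
    obtain ⟨y, hy⟩ := exists_preimage_affine I hflat hM ((openFam f a W).X.obj (op B)) n
      ((openFam f a W).val (I.cocomplex.X (n + 1)).val B x) hx
    exact ⟨((openFam f a W).val (I.cocomplex.X n).val B).symm y,
      ((openFam f a W).val (I.cocomplex.X (n + 1)).val B).injective hy⟩

include hΦ in
/-- The property for unions of basic opens of an affine open. -/
theorem coh_basicOpens (hflat : ∀ {X Y : Scheme.{u}} (f : X ⟶ Y), P f → Flat f)
    (hM : adequateMod (Scheme.precoverage P) T M)
    (hbase : ∀ W : (pullback a f).Opens, IsAffineOpen W → Φ ((openFam f a W).gmod M.val))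
    (W : (pullback a f).Opens) (hW : IsAffineOpen W) :
    ∀ (m : ℕ) (g : Fin m → Γ(pullback a f, W)) (n : ℕ),
      Φ ((cxOpen f a I.cocomplex (⨆ k, (pullback a f).basicOpen (g k))).homology n) := by
  intro m
  induction m with
  | zero =>
    intro g n
    have h : (⨆ k, (pullback a f).basicOpen (g k)) = ⊥ := iSup_of_empty _
    rw [h]
    exact coh_affine f a I hΦ hflat hM ⊥ (isAffineOpen_bot _) (hbase _ (isAffineOpen_bot _)) n
  | succ m ih =>
    intro g n
    have h : (⨆ k, (pullback a f).basicOpen (g k)) =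
        (pullback a f).basicOpen (g 0) ⊔ ⨆ k : Fin m, (pullback a f).basicOpen (g k.succ) := by
      refine le_antisymm (iSup_le fun k => ?_) (sup_le (le_iSup (fun k => (pullback a f).basicOpen (g k)) 0)
        (iSup_le fun k => le_iSup (fun k => (pullback a f).basicOpen (g k)) k.succ))
      refine Fin.cases le_sup_left (fun j => ?_) k
      exact le_sup_of_le_right (le_iSup (fun k : Fin m => (pullback a f).basicOpen (g k.succ)) j)
    rw [h]
    refine mv_step f a I.cocomplex hΦ (coh_affine f a I hΦ hflat hM _ (hW.basicOpen _) (hbase _ (hW.basicOpen _)))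
      (ih fun k => g k.succ) (fun n => ?_) n
    have h' : (pullback a f).basicOpen (g 0) ⊓ ⨆ k : Fin m, (pullback a f).basicOpen (g k.succ) =
        ⨆ k : Fin m, (pullback a f).basicOpen (g 0 * g k.succ) := by
      rw [inf_iSup_eq]
      exact iSup_congr fun k => ((pullback a f).basicOpen_mul _ _).symm
    rw [h']
    exact ih (fun k => g 0 * g k.succ) n

include hΦ in
/-- The property for the base change. -/
theorem coh_pullFam [QuasiCompact f] [QuasiSeparated f]
    (hflat : ∀ {X Y : Scheme.{u}} (f : X ⟶ Y), P f → Flat f)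
    (hM : adequateMod (Scheme.precoverage P) T M)
    (hbase : ∀ W : (pullback a f).Opens, IsAffineOpen W → Φ ((openFam f a W).gmod M.val)) (n : ℕ) :
    Φ ((((Gm (pullFam f a)).mapHomologicalComplex _).obj I.cocomplex).homology n) := by
  haveI : CompactSpace ↥(pullback a f) := QuasiCompact.compactSpace_of_compactSpace (pullback.fst a f)
  haveI : QuasiSeparatedSpace ↥(pullback a f) := quasiSeparatedSpace_of_quasiSeparated (pullback.fst a f)
  have key : ∀ U : (pullback a f).Opens, IsCompact (U : Set ↥(pullback a f)) →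
      ∀ n, Φ ((cxOpen f a I.cocomplex U).homology n) := by
    intro U hU
    refine compact_open_induction_on (P := fun U => ∀ n, Φ ((cxOpen f a I.cocomplex U).homology n)) U hU
      (fun n => coh_affine f a I hΦ hflat hM ⊥ (isAffineOpen_bot _) (hbase _ (isAffineOpen_bot _)) n) ?_
    intro V hV W hVW n
    refine mv_step f a I.cocomplex hΦ hVW (coh_affine f a I hΦ hflat hM _ W.2 (hbase _ W.2)) (fun n => ?_) n
    have hc : IsCompact ((V ⊓ W.1 : (pullback a f).Opens) : Set ↥(pullback a f)) :=
      QuasiSeparatedSpace.inter_isCompact _ _ V.2 hV W.1.2 W.2.isCompact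
    have hb : ∀ x : (V ⊓ W.1 : (pullback a f).Opens), ∃ g : Γ(pullback a f, W.1),
        (pullback a f).basicOpen g ≤ V ⊓ W.1 ∧ x.1 ∈ (pullback a f).basicOpen g := fun x =>
      W.2.exists_basicOpen_le x x.2.2
    choose g hg hxg using hb
    obtain ⟨σ, hσ⟩ := hc.elim_finite_subcover (fun x : (V ⊓ W.1 : (pullback a f).Opens) =>
      ((pullback a f).basicOpen (g x) : Set ↥(pullback a f))) (fun x => ((pullback a f).basicOpen (g x)).2)
      (fun x hx => Set.mem_iUnion.2 ⟨⟨x, hx⟩, hxg ⟨x, hx⟩⟩)
    have h' : V ⊓ W.1 = ⨆ k : Fin σ.card, (pullback a f).basicOpen (g (σ.equivFin.symm k).1) := by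
      refine le_antisymm (fun x hx => ?_) (iSup_le fun k => hg _)
      obtain ⟨y, hy, hxy⟩ := Set.mem_iUnion₂.1 (hσ hx)
      refine TopologicalSpace.Opens.mem_iSup.2 ⟨σ.equivFin ⟨y, hy⟩, ?_⟩
      rw [Equiv.symm_apply_apply]
      exact hxy
    rw [h']
    exact coh_basicOpens f a I hΦ hflat hM hbase W.1 W.2 _ _ n
  let ν := gmodNat (K := Scheme.precoverage P) (openIncl f a (⊤ : (pullback a f).Opens)) (openIncl_pr f a _)
  haveI : ∀ P₀, IsIso (ν.app P₀) := fun P₀ => isIso_of_bijective _ fun B => by
    haveI : IsIso ((openIncl f a (⊤ : (pullback a f).Opens)).app (op B)) := by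
      haveI : IsIso ((Over.forget T).map ((openIncl f a (⊤ : (pullback a f).Opens)).app (op B))) :=
        inferInstanceAs (IsIso (Scheme.topIso ((pullFam f a).X.obj (op B)).left).hom)
      exact isIso_of_reflects_iso _ (Over.forget T)
    exact (tr_iso_bijective P₀ (asIso ((openIncl f a (⊤ : (pullback a f).Opens)).app (op B)))).comp
      ((pullFam f a).val P₀ B).bijective
  haveI : IsIso ν := NatIso.isIso_of_isIso_app ν
  refine hΦ.iso ?_ (key ⊤ isCompact_univ n)
  exact (HomologicalComplex.homologyFunctor _ _ n).mapIso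
    ((NatIso.mapHomologicalComplex (Functor.isoWhiskerLeft (SheafOfModules.forget _) (asIso ν).symm) _).app
      I.cocomplex)

end Groth.Agent.H02CA.Adq
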