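import Groth.Agent.H02CA.Adeq.Push.Pushforward
import Mathlib.Algebra.Category.ModuleCat.Sheaf.Limits

/-!
# The families of open subschemes of a base change and their functors of sections
-/

set_option autoImplicit false
set_option linter.style.haveILetI false

universe u

open CategoryTheory Opposite Limits TensorProduct AlgebraicGeometry

namespace Groth.Agent.H02CA.Adq

open Adeq

variable {S T : Scheme.{u}} (f : T ⟶ S) {R : CommRingCat.{u}} (a : Spec R ⟶ S)

lemma map_pullBase {B B' : Alg R} (φ : B ⟶ B') :
    ((pullFam f a).X.map φ.op).left ≫ pullBase f a B = pullBase f a B' := by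
  apply pullback.hom_ext
  · refine (Category.assoc _ _ _).trans ((congrArg (_ ≫ ·) (pullback.lift_fst _ _ _)).trans ?_)
    refine (Category.assoc _ _ _).symm.trans ((congrArg (· ≫ _) ((pullFam f a).pr_nat φ)).trans ?_)
    refine (Category.assoc _ _ _).trans (Eq.trans ?_ (pullback.lift_fst _ _ _).symm)
    refine congrArg (_ ≫ ·) ?_
    rw [← Spec.map_comp, ← CommRingCat.ofHom_comp]
    exact congrArg (fun ψ => Spec.map (CommRingCat.ofHom ψ)) φ.hom.comp_algebraMap
  · refine (Category.assoc _ _ _).trans ((congrArg (_ ≫ ·) (pullback.lift_snd _ _ _)).trans ?_)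
    exact (Over.w ((pullFam f a).X.map φ.op)).trans (pullback.lift_snd _ _ _).symm

variable (U : (pullback a f).Opens)

/-- The part of a base change over an open. -/
noncomputable abbrev preOpen (B : Alg R) : ((pullFam f a).X.obj (op B)).left.Opens := pullBase f a B ⁻¹ᵁ U

lemma preOpen_range {B B' : Alg R} (φ : B ⟶ B') :
    Set.range ((preOpen f a U B').ι ≫ ((pullFam f a).X.map φ.op).left) ⊆ Set.range (preOpen f a U B).ι := by
  rw [Scheme.Opens.range_ι]
  rintro _ ⟨x, rfl⟩
  have h : pullBase f a B (((pullFam f a).X.map φ.op).left ((preOpen f a U B').ι x)) ∈ U := by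
    rw [← Scheme.Hom.comp_apply, map_pullBase]
    exact x.2
  rw [Scheme.Hom.comp_apply]
  exact h

/-- The objects over an open. -/
noncomputable def openObjs : (Alg R)ᵒᵖ ⥤ Over T where
  obj B := Over.mk ((preOpen f a U B.unop).ι ≫ ((pullFam f a).X.obj B).hom)
  map {B B'} φ := Over.homMk (IsOpenImmersion.lift (preOpen f a U B'.unop).ι
      ((preOpen f a U B.unop).ι ≫ ((pullFam f a).X.map φ).left) (preOpen_range f a U φ.unop)) (by
    change _ ≫ (preOpen f a U B'.unop).ι ≫ _ = _
    rw [IsOpenImmersion.lift_fac_assoc, Category.assoc, Over.w]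
    rfl)
  map_id B := by
    apply Over.OverMorphism.ext
    refine (cancel_mono (preOpen f a U B.unop).ι).1 ((IsOpenImmersion.lift_fac _ _ _).trans ?_)
    rw [(pullFam f a).X.map_id, Over.id_left, Category.comp_id]
    exact (Category.id_comp _).symm
  map_comp {B B' B''} φ ψ := by
    apply Over.OverMorphism.ext
    refine (cancel_mono (preOpen f a U B''.unop).ι).1 ((IsOpenImmersion.lift_fac _ _ _).trans ?_)
    rw [(pullFam f a).X.map_comp, Over.comp_left, Over.comp_left]
    refine Eq.trans ?_ (Category.assoc _ _ _).symm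
    refine Eq.trans ?_ (congrArg (_ ≫ ·) (IsOpenImmersion.lift_fac _ _ _).symm)
    rw [← Category.assoc, ← Category.assoc]
    exact congrArg (· ≫ _) (IsOpenImmersion.lift_fac _ _ _).symm

/-- The family of an open. -/
noncomputable def openFam : TFam R T where
  X := openObjs f a U
  pr B := (preOpen f a U B).ι ≫ (pullFam f a).pr B
  pr_nat {B B'} φ := by
    refine (Category.assoc _ _ _).symm.trans ?_
    refine (congrArg (· ≫ _) (IsOpenImmersion.lift_fac (preOpen f a U B).ι _ (preOpen_range f a U φ))).trans ?_
    refine (Category.assoc _ _ _).trans ?_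
    exact (congrArg ((preOpen f a U B').ι ≫ ·) ((pullFam f a).pr_nat φ)).trans (Category.assoc _ _ _).symm

/-- The inclusion of an open. -/
noncomputable def openIncl : (openFam f a U).X ⟶ (pullFam f a).X where
  app B := Over.homMk (preOpen f a U B.unop).ι rfl
  naturality B B' φ := Over.OverMorphism.ext
    (IsOpenImmersion.lift_fac (preOpen f a U B'.unop).ι _ (preOpen_range f a U φ.unop))

lemma openIncl_pr (B : Alg R) :
    ((openIncl f a U).app (op B)).left ≫ (pullFam f a).pr B = (openFam f a U).pr B := rfl

instance openIncl_open (B : Alg R) : IsOpenImmersion ((openIncl f a U).app (op B)).left :=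
  inferInstanceAs (IsOpenImmersion (preOpen f a U B).ι)

lemma range_openIncl (B : Alg R) :
    Set.range ((openIncl f a U).app (op B)).left = (pullBase f a B) ⁻¹' (U : Set ↥(pullback a f)) :=
  (preOpen f a U B).range_ι

variable {U} {V : (pullback a f).Opens}

lemma exists_openRes (h : U ≤ V) :
    ∃ γ : (openFam f a U).X ⟶ (openFam f a V).X, γ ≫ openIncl f a V = openIncl f a U ∧
      ∀ B, (γ.app (op B)).left ≫ (openFam f a V).pr B = (openFam f a U).pr B := by
  refine exists_factor (𝔛 := openFam f a V) (𝔜 := openFam f a U) (𝔓 := pullFam f a)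
    (openIncl f a U) (openIncl f a V) (openIncl_pr f a U) (openIncl_pr f a V) (fun B => inferInstance) fun B => ?_
  have hr : Set.range ((openIncl f a U).app (op B)).left ⊆ Set.range ((openIncl f a V).app (op B)).left := by
    rw [range_openIncl, range_openIncl]
    exact Set.preimage_mono h
  exact ⟨IsOpenImmersion.lift _ _ hr, IsOpenImmersion.lift_fac _ _ hr⟩

/-- Restriction to a smaller open. -/
noncomputable def openRes (h : U ≤ V) : (openFam f a U).X ⟶ (openFam f a V).X := (exists_openRes f a h).choose

lemma openRes_incl (h : U ≤ V) : openRes f a h ≫ openIncl f a V = openIncl f a U :=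
  (exists_openRes f a h).choose_spec.1

lemma openRes_pr (h : U ≤ V) (B : Alg R) :
    ((openRes f a h).app (op B)).left ≫ (openFam f a V).pr B = (openFam f a U).pr B :=
  (exists_openRes f a h).choose_spec.2 B

lemma mono_openRes (h : U ≤ V) (B : Alg R) : Mono ((openRes f a h).app (op B)) := by
  haveI : Mono ((openRes f a h).app (op B) ≫ (openIncl f a V).app (op B)) := by
    rw [← NatTrans.comp_app, openRes_incl]
    haveI : Mono ((Over.forget T).map ((openIncl f a U).app (op B))) :=
      inferInstanceAs (Mono (preOpen f a U B).ι)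
    exact (Over.forget T).mono_of_mono_map this
  exact mono_of_mono _ ((openIncl f a V).app (op B))

lemma openRes_comp {W : (pullback a f).Opens} (h : U ≤ V) (h' : V ≤ W) :
    openRes f a h ≫ openRes f a h' = openRes f a (h.trans h') := by
  refine NatTrans.ext (funext fun B => ?_)
  haveI : Mono ((openIncl f a W).app B) := by
    haveI : Mono ((Over.forget T).map ((openIncl f a W).app B)) :=
      inferInstanceAs (Mono (preOpen f a W B.unop).ι)
    exact (Over.forget T).mono_of_mono_map this
  rw [← cancel_mono ((openIncl f a W).app B), ← NatTrans.comp_app, ← NatTrans.comp_app, Category.assoc,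
    openRes_incl, openRes_incl, openRes_incl]

variable {K : Precoverage Scheme.{u}} [BigSite.OSh K] (𝔛 : TFam R T)

/-- Sections along a family, as a functor of the module. -/
noncomputable def gmodF : PresheafOfModules.{u + 1} (BigSite.ORing K T).obj ⥤ MVF R where
  obj P := 𝔛.gmod P
  map {P Q} φ := PresheafOfModules.homMk
    { app := fun B => AddCommGrpCat.ofHom (((𝔛.val Q B.unop.unop).symm.toAddMonoidHom.comp
        (φ.app (op (𝔛.X.obj (op B.unop.unop)))).hom.toAddMonoidHom).comp (𝔛.val P B.unop.unop).toAddMonoidHom)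
      naturality := fun {B B'} g => by
        ext x
        exact PresheafOfModules.naturality_apply φ (𝔛.X.map g.unop.unop.op).op (𝔛.val P B.unop.unop x) }
    (fun B r x => (φ.app (op (𝔛.X.obj (op B.unop.unop)))).hom.map_smul (𝔛.scal (K := K) B.unop.unop r)
      (𝔛.val P B.unop.unop x))
  map_id P := rfl
  map_comp φ ψ := rfl

instance gmodF_additive : (gmodF (K := K) 𝔛).Additive where
  map_add := rfl

variable {𝔛} {𝔜 : TFam R T}

/-- Restriction along a map of families, as a natural transformation. -/
noncomputable def gmodNat (α : 𝔜.X ⟶ 𝔛.X) (hα : ∀ B, (α.app (op B)).left ≫ 𝔛.pr B = 𝔜.pr B) :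
    gmodF (K := K) 𝔛 ⟶ gmodF (K := K) 𝔜 where
  app P := TFam.gmap P α hα
  naturality P Q φ := hom_ext fun B x =>
    (PresheafOfModules.naturality_apply φ (α.app (op B)).op (𝔛.val P B x)).symm

/-- Sections of sheaves along a family. -/
noncomputable abbrev Gm (𝔛 : TFam R T) : BigSite.Mod K T ⥤ MVF R := SheafOfModules.forget _ ⋙ gmodF (K := K) 𝔛

variable (U V)

/-- Sections over the part over an open. -/
noncomputable abbrev GmOpen : BigSite.Mod K T ⥤ MVF R := Gm (K := K) (openFam f a U)

variable {U V}

/-- Restriction of sections. -/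
noncomputable def GmRes (h : U ≤ V) : GmOpen f a V (K := K) ⟶ GmOpen f a U (K := K) :=
  Functor.whiskerLeft _ (gmodNat (openRes f a h) (openRes_pr f a h))

lemma GmRes_apply (h : U ≤ V) (I : BigSite.Mod K T) (B : Alg R) (x : ((openFam f a V).gmod I.val).obj (pt B)) :
    (openFam f a U).val I.val B (((GmRes f a h).app I).app (pt B) x) =
      tr I.val ((openRes f a h).app (op B)) ((openFam f a V).val I.val B x) := rfl

end Groth.Agent.H02CA.Adq
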