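import Groth.Agent.H02CA.Adeq.Push.Families
import Mathlib.AlgebraicGeometry.Morphisms.QuasiSeparated

/-!
# Direct images of adequate modules along quasi-compact and quasi-separated morphisms
-/

set_option autoImplicit false
set_option linter.style.haveILetI false

universe w u

open CategoryTheory Opposite Limits TensorProduct AlgebraicGeometry MorphismProperty

namespace Groth.Agent.H02CA.Adq

open Adeq

variable {P : MorphismProperty Scheme.{u}} [GoodCov P] [BigSite.OSh (Scheme.precoverage P)]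

/-- Jointly surjective open immersions cover an object over the base. -/
lemma ofArrows_mem_J {T : Scheme.{u}} {ι : Type w} {U : Over T} {X : ι → Over T} (g : ∀ i, X i ⟶ U)
    (ho : ∀ i, IsOpenImmersion (g i).left) (hs : ∀ x : U.left, ∃ i, x ∈ Set.range (g i).left) :
    Sieve.ofArrows X g ∈ QuotSh.J (Scheme.precoverage P) T U := by
  rw [GrothendieckTopology.mem_over_iff, Sieve.overEquiv_ofArrows]
  exact Precoverage.generate_mem_toGrothendieck
    ((Scheme.ofArrows_mem_precoverage_iff P).2 ⟨hs, fun i => GoodCov.openImmersion _ (ho i)⟩)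

variable {T : Scheme.{u}}

/-- Compatible sections on the members of a covering glue. -/
lemma exists_glue_of_mem_J {K : Precoverage Scheme.{u}} [BigSite.OSh K] (M : BigSite.Mod K T) {ι : Type w}
    {U : Over T} {X : ι → Over T} (g : ∀ i, X i ⟶ U) (hg : Sieve.ofArrows X g ∈ QuotSh.J K T U)
    (y : ∀ i, M.val.obj (op (X i)))
    (hy : ∀ (i j : ι) (Z : Over T) (r : Z ⟶ X i) (r' : Z ⟶ X j), r ≫ g i = r' ≫ g j →
      tr M.val r (y i) = tr M.val r' (y j)) :
    ∃ x : M.val.obj (op U), ∀ i, tr M.val (g i) x = y i := by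
  have hsh : Presieve.IsSheaf (QuotSh.J K T) (M.val.presheaf ⋙ CategoryTheory.forget AddCommGrpCat.{u + 1}) :=
    (isSheaf_iff_isSheaf_of_type _ _).1 ((Presheaf.isSheaf_iff_isSheaf_forget (QuotSh.J K T) M.val.presheaf
      (CategoryTheory.forget AddCommGrpCat.{u + 1})).1 M.isSheaf)
  have hfor := (Presieve.isSheafFor_arrows_iff _ _).1
    ((Presieve.isSheafFor_iff_generate (Presieve.ofArrows X g)).2 (hsh _ hg))
  obtain ⟨x, hx, -⟩ := hfor y hy
  exact ⟨x, hx⟩

/-- Factor a map of families through a monomorphism of families. -/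
lemma exists_factor {R : CommRingCat.{u}} {𝔛 𝔜 𝔓 : TFam R T} (α : 𝔜.X ⟶ 𝔓.X) (β : 𝔛.X ⟶ 𝔓.X)
    (hα : ∀ B, (α.app (op B)).left ≫ 𝔓.pr B = 𝔜.pr B) (hβ : ∀ B, (β.app (op B)).left ≫ 𝔓.pr B = 𝔛.pr B)
    (hm : ∀ B, Mono (β.app (op B)).left)
    (hl : ∀ B, ∃ l : (𝔜.X.obj (op B)).left ⟶ (𝔛.X.obj (op B)).left,
      l ≫ (β.app (op B)).left = (α.app (op B)).left) :
    ∃ γ : 𝔜.X ⟶ 𝔛.X, γ ≫ β = α ∧ ∀ B, (γ.app (op B)).left ≫ 𝔛.pr B = 𝔜.pr B := by
  choose l hl using hl
  let γ : ∀ B : (Alg R)ᵒᵖ, 𝔜.X.obj B ⟶ 𝔛.X.obj B := fun B => Over.homMk (l B.unop) (by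
    rw [← Over.w (β.app B), ← Category.assoc, hl]
    exact Over.w (α.app B))
  have hγ : ∀ B, γ B ≫ β.app B = α.app B := fun B => Over.OverMorphism.ext (hl B.unop)
  refine ⟨{ app := γ, naturality := fun B B' φ => ?_ }, NatTrans.ext (funext hγ), fun B => ?_⟩
  · haveI := hm B'.unop
    apply Over.OverMorphism.ext
    refine (cancel_mono (β.app B').left).1 ?_
    refine congrArg CommaMorphism.left (?_ : (𝔜.X.map φ ≫ γ B') ≫ β.app B' = (γ B ≫ 𝔛.X.map φ) ≫ β.app B')
    rw [Category.assoc, hγ, Category.assoc, β.naturality, ← Category.assoc, hγ, α.naturality]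
  · change l B ≫ 𝔛.pr B = 𝔜.pr B
    rw [← hβ, ← Category.assoc, hl, hα]

variable {S : Scheme.{u}} (f : T ⟶ S) {R : CommRingCat.{u}} (a : Spec R ⟶ S)

/-- The functor of base changes is adequate for a base change with a finite affine cover having finitely
covered intersections. -/
theorem adequate_pullFam {M : BigSite.Mod (Scheme.precoverage P) T} (hM : AllAdeq M)
    {ι κ : Type} [Finite ι] [Finite κ]
    (A : ι → Type u) [∀ i, CommRing (A i)] [∀ i, Algebra R (A i)]
    (A' : κ → Type u) [∀ p, CommRing (A' p)] [∀ p, Algebra R (A' p)]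
    (w : ∀ i, Spec (CommRingCat.of (A i)) ⟶ pullback a f) [∀ i, IsOpenImmersion (w i)]
    (hw : ∀ i, w i ≫ pullback.fst a f = algMap' R (A i))
    (v : ∀ p, Spec (CommRingCat.of (A' p)) ⟶ pullback a f) [∀ p, IsOpenImmersion (v p)]
    (hv : ∀ p, v p ≫ pullback.fst a f = algMap' R (A' p))
    (s t : κ → ι) (hs : ∀ p, Set.range (v p) ⊆ Set.range (w (s p)))
    (ht : ∀ p, Set.range (v p) ⊆ Set.range (w (t p)))
    (hcov : ∀ x, ∃ i, x ∈ Set.range (w i))
    (hcov' : ∀ i j x, x ∈ Set.range (w i) → x ∈ Set.range (w j) →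
      ∃ p, s p = i ∧ t p = j ∧ x ∈ Set.range (v p)) :
    adequate R ((pullFam f a).gmod M.val) := by
  let 𝔛 : ι → TFam R T := fun i => chartFam (A i) (w i ≫ pullback.snd a f)
  let 𝔜 : κ → TFam R T := fun p => chartFam (A' p) (v p ≫ pullback.snd a f)
  let β : ∀ i, (𝔛 i).X ⟶ (pullFam f a).X := fun i => chartMap f a (A i) (w i) (hw i)
  let α : ∀ p, (𝔜 p).X ⟶ (pullFam f a).X := fun p => chartMap f a (A' p) (v p) (hv p)
  have hβ : ∀ i B, ((β i).app (op B)).left ≫ (pullFam f a).pr B = (𝔛 i).pr B := fun i =>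
    chartMap_fst f a (A i) (w i) (hw i)
  have hα : ∀ p B, ((α p).app (op B)).left ≫ (pullFam f a).pr B = (𝔜 p).pr B := fun p =>
    chartMap_fst f a (A' p) (v p) (hv p)
  have hβo : ∀ i B, IsOpenImmersion ((β i).app (op B)).left := fun i =>
    isOpenImmersion_chartMap f a (A i) (w i) (hw i)
  have hαo : ∀ p B, IsOpenImmersion ((α p).app (op B)).left := fun p =>
    isOpenImmersion_chartMap f a (A' p) (v p) (hv p)
  have hβm : ∀ i B, Mono ((β i).app (op B)).left := fun i B => by
    haveI := hβo i B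
    infer_instance
  have hfac : ∀ (p : κ) (i : ι), Set.range (v p) ⊆ Set.range (w i) →
      ∃ γ : (𝔜 p).X ⟶ (𝔛 i).X, γ ≫ β i = α p ∧ ∀ B, (γ.app (op B)).left ≫ (𝔛 i).pr B = (𝔜 p).pr B := by
    intro p i hpi
    refine exists_factor (α p) (β i) (hα p) (hβ i) (hβm i) fun B => ?_
    obtain ⟨l, hl, -⟩ := chart_cone_lift f a (A i) (w i) (hw i) ((α p).app (op B)).left
      (chartLeft (A' p) (v p ≫ pullback.snd a f) B ≫ IsOpenImmersion.lift (w i) (v p) hpi) (by
        refine (chartMap_base f a (A' p) (v p) (hv p) B).trans ?_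
        rw [Category.assoc, IsOpenImmersion.lift_fac])
    exact ⟨l, hl⟩
  choose γ₁ hγ₁ hγ₁' using fun p => hfac p (s p) (hs p)
  choose γ₂ hγ₂ hγ₂' using fun p => hfac p (t p) (ht p)
  let G : MVF R := (pullFam f a).gmod M.val
  let Pc : ι → MVF R := fun i => (𝔛 i).gmod M.val
  let Qc : κ → MVF R := fun p => (𝔜 p).gmod M.val
  let e : G ⟶ ⨁ Pc := biproduct.lift fun i => TFam.gmap M.val (β i) (hβ i)
  let d : (⨁ Pc) ⟶ ⨁ Qc := biproduct.lift fun p =>
    biproduct.π Pc (s p) ≫ TFam.gmap M.val (γ₁ p) (hγ₁' p) -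
      biproduct.π Pc (t p) ≫ TFam.gmap M.val (γ₂ p) (hγ₂' p)
  let cp : ∀ (B : Alg R) (i : ι), (⨁ Pc).obj (pt B) → M.val.obj (op ((𝔛 i).X.obj (op B))) := fun B i z =>
    (𝔛 i).val M.val B ((biproduct.π Pc i).app (pt B) z)
  let cq : ∀ (B : Alg R) (p : κ), (⨁ Qc).obj (pt B) → M.val.obj (op ((𝔜 p).X.obj (op B))) := fun B p z =>
    (𝔜 p).val M.val B ((biproduct.π Qc p).app (pt B) z)
  have he : ∀ (B : Alg R) (x : G.obj (pt B)) (i : ι),
      cp B i (e.app (pt B) x) = tr M.val ((β i).app (op B)) ((pullFam f a).val M.val B x) := fun B x i =>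
    congrArg (fun χ : G ⟶ Pc i => (𝔛 i).val M.val B (χ.app (pt B) x))
      (biproduct.lift_π (fun i => TFam.gmap M.val (β i) (hβ i)) i)
  have hd : ∀ (B : Alg R) (z : (⨁ Pc).obj (pt B)) (p : κ),
      cq B p (d.app (pt B) z) =
        tr M.val ((γ₁ p).app (op B)) (cp B (s p) z) - tr M.val ((γ₂ p).app (op B)) (cp B (t p) z) := fun B z p =>
    congrArg (fun χ : (⨁ Pc) ⟶ Qc p => (𝔜 p).val M.val B (χ.app (pt B) z)) (biproduct.lift_π (fun p : κ =>
      biproduct.π Pc (s p) ≫ TFam.gmap M.val (γ₁ p) (hγ₁' p) -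
        biproduct.π Pc (t p) ≫ TFam.gmap M.val (γ₂ p) (hγ₂' p)) p)
  have hcovJ : ∀ B : Alg R, Sieve.ofArrows (fun i => (𝔛 i).X.obj (op B)) (fun i => (β i).app (op B)) ∈
      QuotSh.J (Scheme.precoverage P) T ((pullFam f a).X.obj (op B)) := fun B =>
    ofArrows_mem_J _ (fun i => hβo i B) fun x => by
      obtain ⟨i, y, hy⟩ := hcov (pullBase f a B x)
      exact ⟨i, mem_range_chartMap f a (A i) (w i) (hw i) x y hy.symm⟩
  have hew : e ≫ d = 0 := by
    refine hom_ext fun B x => biproduct_π_ι_apply Qc B _ fun p => ((𝔜 p).val M.val B).injective ?_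
    change cq B p (d.app (pt B) (e.app (pt B) x)) = _
    rw [hd, he, he, tr_comp, tr_comp, ← NatTrans.comp_app, ← NatTrans.comp_app, hγ₁, hγ₂, sub_self]
    exact (map_zero ((𝔜 p).val M.val B)).symm
  have hinj : ∀ B : Alg R, Function.Injective (e.app (pt B)) := fun B x y hxy => by
    refine ((pullFam f a).val M.val B).injective (eq_of_locally M (hcovJ B) _ _ ?_)
    rintro V g hg
    obtain ⟨_, l, _, ⟨i⟩, rfl⟩ := hg
    rw [← tr_comp, ← tr_comp, ← he, ← he, hxy]
  obtain ⟨i₀⟩ := nonempty_iso_kernel e d hew hinj fun B z hz => by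
    obtain ⟨x, hx⟩ := exists_glue_of_mem_J M (fun i => (β i).app (op B)) (hcovJ B) (fun i => cp B i z)
      fun i j Z r r' hrr => by
        let κ' := {p : κ // s p = i ∧ t p = j}
        let q : Z ⟶ (pullFam f a).X.obj (op B) := r ≫ (β i).app (op B)
        let Zp : κ' → Over T := fun p =>
          Over.mk (pullback.fst q.left ((α p.1).app (op B)).left ≫ Z.hom)
        let gp : ∀ p, Zp p ⟶ Z := fun p => Over.homMk (pullback.fst q.left ((α p.1).app (op B)).left) rfl
        refine eq_of_locally M (T := Sieve.ofArrows Zp gp) (ofArrows_mem_J gp (fun p => ?_) fun z' => ?_) _ _ ?_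
        · haveI := hαo p.1 B
          exact (inferInstance : IsOpenImmersion (pullback.fst q.left ((α p.1).app (op B)).left))
        · have hxi : pullBase f a B (q.left z') ∈ Set.range (w i) := by
            refine ⟨chartLeft (A i) (w i ≫ pullback.snd a f) B (r.left z'), ?_⟩
            rw [← Scheme.Hom.comp_apply, ← chartMap_base f a (A i) (w i) (hw i) B]
            rfl
          have hxj : pullBase f a B (q.left z') ∈ Set.range (w j) := by
            refine ⟨chartLeft (A j) (w j ≫ pullback.snd a f) B (r'.left z'), ?_⟩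
            rw [show q = r' ≫ (β j).app (op B) from hrr]
            rw [← Scheme.Hom.comp_apply, ← chartMap_base f a (A j) (w j) (hw j) B]
            rfl
          obtain ⟨p, hp₁, hp₂, y, hy⟩ := hcov' i j _ hxi hxj
          obtain ⟨y', hy'⟩ := mem_range_chartMap f a (A' p) (v p) (hv p) (q.left z') y hy.symm
          obtain ⟨z'', hz'', -⟩ := Scheme.Pullback.exists_preimage_pullback (f := q.left)
            (g := ((α p).app (op B)).left) z' y' hy'.symm
          exact ⟨⟨p, hp₁, hp₂⟩, z'', hz''⟩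
        · rintro V g hg
          obtain ⟨_, l, _, ⟨p, hp₁, hp₂⟩, rfl⟩ := hg
          subst hp₁ hp₂
          rw [← tr_comp, ← tr_comp]
          congr 1
          let sp : Zp ⟨p, rfl, rfl⟩ ⟶ (𝔜 p).X.obj (op B) :=
            Over.homMk (pullback.snd q.left ((α p).app (op B)).left) (by
              change _ = pullback.fst q.left ((α p).app (op B)).left ≫ Z.hom
              rw [← Over.w ((α p).app (op B)), ← Category.assoc, ← pullback.condition, Category.assoc, Over.w q])
          have hsp : gp ⟨p, rfl, rfl⟩ ≫ q = sp ≫ (α p).app (op B) := Over.OverMorphism.ext pullback.condition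
          have h1 : gp ⟨p, rfl, rfl⟩ ≫ r = sp ≫ (γ₁ p).app (op B) := by
            apply Over.OverMorphism.ext
            haveI := hβm (s p) B
            refine (cancel_mono ((β (s p)).app (op B)).left).1 ?_
            refine congrArg CommaMorphism.left (?_ : (_ ≫ r) ≫ (β (s p)).app (op B) = (sp ≫ _) ≫ _)
            rw [Category.assoc, Category.assoc, ← NatTrans.comp_app, hγ₁]
            exact hsp
          have h2 : gp ⟨p, rfl, rfl⟩ ≫ r' = sp ≫ (γ₂ p).app (op B) := by
            apply Over.OverMorphism.ext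
            haveI := hβm (t p) B
            refine (cancel_mono ((β (t p)).app (op B)).left).1 ?_
            refine congrArg CommaMorphism.left (?_ : (_ ≫ r') ≫ (β (t p)).app (op B) = (sp ≫ _) ≫ _)
            rw [Category.assoc, Category.assoc, ← NatTrans.comp_app, hγ₂, ← hrr]
            exact hsp
          rw [tr_comp, tr_comp, h1, h2, ← tr_comp, ← tr_comp]
          congr 1
          exact sub_eq_zero.1 ((hd B z p).symm.trans ((congrArg (cq B p) hz).trans
            ((congrArg ((𝔜 p).val M.val B) (map_zero ((biproduct.π Qc p).app (pt B)).hom)).trans (map_zero _))))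
    refine ⟨((pullFam f a).val M.val B).symm x, sub_eq_zero.1 (biproduct_π_ι_apply Pc B _ fun i =>
      ((𝔛 i).val M.val B).injective ?_)⟩
    refine (congrArg ((𝔛 i).val M.val B) (map_sub ((biproduct.π Pc i).app (pt B)).hom _ _)).trans ?_
    rw [map_sub, map_zero, sub_eq_zero]
    exact (he B _ i).trans ((congrArg (tr M.val _) (AddEquiv.apply_symm_apply _ x)).trans (hx i))
  exact (adequate R).prop_of_iso i₀.symm (adequate_kernel d
    (adequate_finite_biproduct Pc fun i => adequate_chartFam (A i) _ M (hM (CommRingCat.of (A i)) _))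
    (adequate_finite_biproduct Qc fun p => adequate_chartFam (A' p) _ M (hM (CommRingCat.of (A' p)) _)))

/-- Direct images along quasi-compact and quasi-separated morphisms preserve adequate modules. -/
theorem adequateMod_pushMod [QuasiCompact f] [QuasiSeparated f] {M : BigSite.Mod (Scheme.precoverage P) T}
    (hM : adequateMod (Scheme.precoverage P) T M) :
    adequateMod (Scheme.precoverage P) S ((BigSite.pushMod (Scheme.precoverage P) f).obj M) := by
  refine adequateMod_of_allAdeq fun R a => adequate_pushMod_at f a M ?_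
  let X := pullback a f
  haveI : CompactSpace X := QuasiCompact.compactSpace_of_compactSpace (pullback.fst a f)
  haveI : QuasiSeparatedSpace X := quasiSeparatedSpace_of_quasiSeparated (pullback.fst a f)
  obtain ⟨σ, hσ, hσu⟩ := isCompact_and_isOpen_iff_finite_and_eq_biUnion_affineOpens.1
    ⟨(isCompact_univ : IsCompact (Set.univ : Set X)), isOpen_univ⟩
  have hint : ∀ i j : σ, ∃ τ : Set X.affineOpens, τ.Finite ∧
      ((i.1.1 : Set X) ∩ (j.1.1 : Set X)) = ⋃ k ∈ τ, (k : Set X) := fun i j =>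
    isCompact_and_isOpen_iff_finite_and_eq_biUnion_affineOpens.1
      ⟨QuasiSeparatedSpace.inter_isCompact _ _ i.1.1.2 i.1.2.isCompact j.1.1.2 j.1.2.isCompact,
        i.1.1.2.inter j.1.1.2⟩
  choose τ hτ hτu using hint
  haveI : Finite σ := hσ.to_subtype
  obtain ⟨n, ⟨en⟩⟩ := Finite.exists_equiv_fin σ
  haveI : ∀ i j, Finite (τ i j) := fun i j => (hτ i j).to_subtype
  obtain ⟨m, ⟨em⟩⟩ := Finite.exists_equiv_fin (Σ ij : σ × σ, τ ij.1 ij.2)
  let U : Fin n → X.affineOpens := fun i => (en.symm i).1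
  let V : Fin m → X.affineOpens := fun p => (em.symm p).2.1
  letI : ∀ i, Algebra R Γ(X, (U i).1) := fun i =>
    (Spec.preimage ((U i).2.fromSpec ≫ pullback.fst a f)).hom.toAlgebra
  letI : ∀ p, Algebra R Γ(X, (V p).1) := fun p =>
    (Spec.preimage ((V p).2.fromSpec ≫ pullback.fst a f)).hom.toAlgebra
  have hsub : ∀ p, ((V p).1 : Set X) ⊆ ((em.symm p).1.1.1.1 : Set X) ∩ ((em.symm p).1.2.1.1 : Set X) :=
    fun p => by
      rw [hτu]
      exact Set.subset_biUnion_of_mem (u := fun k : X.affineOpens => (k : Set X)) (em.symm p).2.2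
  refine adequate_pullFam f a (allAdeq_of_adequateMod hM) (fun i => Γ(X, (U i).1)) (fun p => Γ(X, (V p).1))
    (fun i => (U i).2.fromSpec) (fun i => (Spec.map_preimage _).symm)
    (fun p => (V p).2.fromSpec) (fun p => (Spec.map_preimage _).symm)
    (fun p => en (em.symm p).1.1) (fun p => en (em.symm p).1.2) ?_ ?_ ?_ ?_
  · intro p
    rw [(V p).2.range_fromSpec, (U _).2.range_fromSpec]
    intro x hx
    simpa [U] using (hsub p hx).1
  · intro p
    rw [(V p).2.range_fromSpec, (U _).2.range_fromSpec]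
    intro x hx
    simpa [U] using (hsub p hx).2
  · intro x
    obtain ⟨k, hk, hxk⟩ := Set.mem_iUnion₂.1 (hσu ▸ Set.mem_univ x : x ∈ ⋃ k ∈ σ, (k : Set X))
    refine ⟨en ⟨k, hk⟩, ?_⟩
    rw [(U _).2.range_fromSpec]
    simpa [U] using hxk
  · intro i j x hxi hxj
    rw [(U i).2.range_fromSpec] at hxi
    rw [(U j).2.range_fromSpec] at hxj
    have hx : x ∈ ((en.symm i).1.1 : Set X) ∩ ((en.symm j).1.1 : Set X) := ⟨hxi, hxj⟩
    rw [hτu] at hx
    obtain ⟨k, hk, hxk⟩ := Set.mem_iUnion₂.1 hx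
    refine ⟨em ⟨(en.symm i, en.symm j), ⟨k, hk⟩⟩, ?_, ?_, ?_⟩
    · simp
    · simp
    · rw [(V _).2.range_fromSpec]
      exact (Set.ext_iff.1 (congrArg (fun q : Σ ij : σ × σ, τ ij.1 ij.2 => (q.2.1.1 : Set X))
        (em.symm_apply_apply ⟨(en.symm i, en.symm j), ⟨k, hk⟩⟩)) x).2 hxk

end Groth.Agent.H02CA.Adq
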