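import Groth.Agent.H02CA.Adeq.Push.OpenCoh
import Groth.Agent.H02CA.Adeq.Big.Sheafify
import Groth.Agent.H02CA.Adeq.Big.Parasitic
import Mathlib.Algebra.Homology.ShortComplex.PreservesHomology

/-!
# Higher direct images of adequate modules
-/

set_option autoImplicit false
set_option linter.style.haveILetI false

universe u

open CategoryTheory Opposite Limits TensorProduct AlgebraicGeometry MorphismProperty

namespace Groth.Agent.H02CA.Adq

open Adeq

/-- Exact functors commute with homology of complexes. -/
theorem nonempty_mapHomology {C D : Type*} [Category C] [Category D] [Abelian C] [Abelian D] (F : C ⥤ D)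
    [F.Additive] [PreservesFiniteLimits F] [PreservesFiniteColimits F] (L : CochainComplex C ℕ) (n : ℕ) :
    Nonempty (((F.mapHomologicalComplex _).obj L).homology n ≅ F.obj (L.homology n)) :=
  ⟨(L.sc n).mapHomologyIso F⟩

variable {K : Precoverage Scheme.{u}} [BigSite.OSh K] {S T : Scheme.{u}}

instance preservesFiniteLimits_toMVFPre {R : CommRingCat.{u}} (a : Spec R ⟶ S) :
    PreservesFiniteLimits (toMVFPre K a) := by
  refine ⟨fun J _ _ => ?_⟩
  haveI h : PreservesLimitsOfShape J (toMVFPre K a ⋙ PresheafOfModules.toPresheaf _) :=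
    inferInstanceAs (PreservesLimitsOfShape J
      (PresheafOfModules.toPresheaf (BigSite.ORing K S).obj ⋙
        (Functor.whiskeringLeft _ _ AddCommGrpCat.{u + 1}).obj (specOver a).op))
  haveI : ReflectsLimitsOfShape J (PresheafOfModules.toPresheaf.{u + 1} (ringOf R)) :=
    reflectsLimitsOfShape_of_reflectsIsomorphisms
  exact preservesLimitsOfShape_of_reflects_of_preserves (toMVFPre K a) (PresheafOfModules.toPresheaf _)

instance preservesFiniteColimits_toMVFPre {R : CommRingCat.{u}} (a : Spec R ⟶ S) :
    PreservesFiniteColimits (toMVFPre K a) := by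
  haveI : PreservesColimitsOfSize.{0, 0} (toMVFPre K a) :=
    preservesColimitsOfSize_shrink.{0, u + 1, 0, u + 1} (toMVFPre K a)
  infer_instance

/-- The presheaf of a module. -/
noncomputable abbrev preOf (K : Precoverage Scheme.{u}) [BigSite.OSh K] (S : Scheme.{u}) :
    BigSite.Mod K S ⥤ PresheafOfModules.{u + 1} (BigSite.ORing K S).obj :=
  SheafOfModules.forget _ ⋙ PresheafOfModules.restrictScalars (𝟙 _)

/-- The presheaf cohomology of a complex of modules sheafifies to its cohomology. -/
theorem nonempty_shf_homology (L : CochainComplex (BigSite.Mod K S) ℕ) (n : ℕ) :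
    Nonempty ((shf K S).obj ((((preOf K S).mapHomologicalComplex _).obj L).homology n) ≅ L.homology n) := by
  let ε := (PresheafOfModules.sheafificationAdjunction.{u + 1} (𝟙 (BigSite.ORing K S).obj)).counit
  haveI : (shf K S).Additive := (PresheafOfModules.sheafificationAdjunction.{u + 1} _).left_adjoint_additive
  obtain ⟨e⟩ := nonempty_mapHomology (shf K S) (((preOf K S).mapHomologicalComplex _).obj L) n
  exact ⟨e.symm ≪≫ (HomologicalComplex.homologyFunctor _ _ n).mapIso
    (HomologicalComplex.Hom.isoOfComponents (fun i => (asIso ε).app (L.X i))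
      (fun i j _ => (ε.naturality (L.d i j)).symm))⟩

variable (f : T ⟶ S) {R : CommRingCat.{u}} (a : Spec R ⟶ S)

/-- Direct images at an affine object as a natural isomorphism. -/
theorem nonempty_pushMod_iso :
    Nonempty (Gm (K := K) (pullFam f a) ≅ BigSite.pushMod K f ⋙ preOf K S ⋙ toMVFPre K a) := by
  let i : Gm (K := K) (pullFam f a) ⟶ BigSite.pushMod K f ⋙ preOf K S ⋙ toMVFPre K a :=
    { app := fun M => PresheafOfModules.homMk
        { app := fun B => AddCommGrpCat.ofHom
            { toFun := fun x => x
              map_zero' := rfl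
              map_add' := fun _ _ => rfl }
          naturality := fun {B B'} g => rfl }
        (fun B r x => rfl)
      naturality := fun M N φ => hom_ext fun B x => rfl }
  haveI : ∀ M, IsIso (i.app M) := fun M => isIso_of_bijective _ fun B => ⟨fun x y h => h, fun y => ⟨y, rfl⟩⟩
  haveI : IsIso i := NatIso.isIso_of_isIso_app i
  exact ⟨asIso i⟩

variable {P : MorphismProperty Scheme.{u}} [GoodCov P] [BigSite.OSh (Scheme.precoverage P)]
  {M : BigSite.Mod (Scheme.precoverage P) T} (I : InjectiveResolution M)

/-- The presheaf computing a higher direct image. -/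
noncomputable abbrev rPre (n : ℕ) : PresheafOfModules.{u + 1} (BigSite.ORing (Scheme.precoverage P) S).obj :=
  (((preOf (Scheme.precoverage P) S).mapHomologicalComplex _).obj
    (((BigSite.pushMod (Scheme.precoverage P) f).mapHomologicalComplex _).obj I.cocomplex)).homology n

/-- A property of the presheaf computing a higher direct image at an affine object. -/
theorem qclass_rPre [QuasiCompact f] [QuasiSeparated f]
    (hflat : ∀ {X Y : Scheme.{u}} (f : X ⟶ Y), P f → Flat f)
    (hM : adequateMod (Scheme.precoverage P) T M) {Φ : MVF R → Prop} (hΦ : QClass Φ)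
    (hbase : ∀ W : (pullback a f).Opens, IsAffineOpen W → Φ ((openFam f a W).gmod M.val)) (n : ℕ) :
    Φ (FModPre (Scheme.precoverage P) a (rPre f I n)) := by
  obtain ⟨e⟩ := nonempty_mapHomology (toMVFPre (Scheme.precoverage P) a)
    (((preOf (Scheme.precoverage P) S).mapHomologicalComplex _).obj
      (((BigSite.pushMod (Scheme.precoverage P) f).mapHomologicalComplex _).obj I.cocomplex)) n
  obtain ⟨i⟩ := nonempty_pushMod_iso (K := Scheme.precoverage P) f a
  refine hΦ.iso ?_ (coh_pullFam f a I hΦ hflat hM hbase n)
  let j : ((Gm (pullFam f a)).mapHomologicalComplex (ComplexShape.up ℕ)).obj I.cocomplex ≅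
      ((toMVFPre (Scheme.precoverage P) a).mapHomologicalComplex (ComplexShape.up ℕ)).obj
        (((preOf (Scheme.precoverage P) S).mapHomologicalComplex (ComplexShape.up ℕ)).obj
          (((BigSite.pushMod (Scheme.precoverage P) f).mapHomologicalComplex (ComplexShape.up ℕ)).obj I.cocomplex)) :=
    HomologicalComplex.Hom.isoOfComponents (fun k => i.app (I.cocomplex.X k))
      (fun k l _ => (i.hom.naturality (I.cocomplex.d k l)).symm)
  exact (HomologicalComplex.homologyFunctor _ _ n).mapIso j ≪≫ e

/-- The presheaves computing higher direct images are adequate at affine objects. -/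
theorem allAdeqPre_rPre [QuasiCompact f] [QuasiSeparated f]
    (hflat : ∀ {X Y : Scheme.{u}} (f : X ⟶ Y), P f → Flat f)
    (hM : adequateMod (Scheme.precoverage P) T M) (n : ℕ) : AllAdeqPre (rPre f I n) := fun R a => by
  refine qclass_rPre f a I hflat hM (qClass_adequate (R : Type u)) (fun W hW => ?_) n
  letI : Algebra R Γ(pullback a f, W) := (Spec.preimage (hW.fromSpec ≫ pullback.fst a f)).hom.toAlgebra
  obtain ⟨e⟩ := nonempty_gmod_open_iso_chart f a hW (Spec.map_preimage _).symm M
  exact (adequate R).prop_of_iso e.symm
    (adequate_chartFam _ _ M (allAdeq_of_adequateMod hM (CommRingCat.of Γ(pullback a f, W)) _))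

variable [HasInjectiveResolutions (BigSite.Mod (Scheme.precoverage P) T)]

/-- Higher direct images are sheafified presheaf cohomology. -/
theorem nonempty_Rpush_iso (n : ℕ) :
    Nonempty ((shf (Scheme.precoverage P) S).obj (rPre f I n) ≅
      (BigSite.RpushMod (Scheme.precoverage P) f n).obj M) := by
  obtain ⟨e⟩ := nonempty_shf_homology
    (((BigSite.pushMod (Scheme.precoverage P) f).mapHomologicalComplex _).obj I.cocomplex) n
  exact ⟨e ≪≫ (I.isoRightDerivedObj (BigSite.pushMod (Scheme.precoverage P) f) n).symm⟩

/-- Higher direct images preserve adequate modules. -/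
theorem adequateMod_RpushMod [QuasiCompact f] [QuasiSeparated f]
    (hflat : ∀ {X Y : Scheme.{u}} (f : X ⟶ Y), P f → Flat f)
    (hM : adequateMod (Scheme.precoverage P) T M) (n : ℕ) :
    adequateMod (Scheme.precoverage P) S ((BigSite.RpushMod (Scheme.precoverage P) f n).obj M) := by
  let I : InjectiveResolution M := (HasInjectiveResolution.out (Z := M)).some
  exact (adequateMod (Scheme.precoverage P) S).prop_of_iso (nonempty_Rpush_iso f I n).some
    (adequate_sheafification hflat _ (allAdeqPre_rPre f I hflat hM n))

/-- Higher direct images preserve parasitic adequate modules. -/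
theorem parasitic_RpushMod [QuasiCompact f] [QuasiSeparated f]
    (hflat : ∀ {X Y : Scheme.{u}} (f : X ⟶ Y), P f → Flat f)
    (hM : adequateMod (Scheme.precoverage P) T M) (hpar : parasitic (Scheme.precoverage P) T M) (n : ℕ) :
    parasitic (Scheme.precoverage P) S ((BigSite.RpushMod (Scheme.precoverage P) f n).obj M) := by
  let I : InjectiveResolution M := (HasInjectiveResolution.out (Z := M)).some
  let N := (shf (Scheme.precoverage P) S).obj (rPre f I n)
  obtain ⟨e⟩ := nonempty_Rpush_iso f I n
  refine parasitic_of_affine_cover (adequateMod_RpushMod f hflat hM n) (fun U : S.affineOpens => U.1)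
    (fun U => U.2) (iSup_affineOpens_eq_top S) fun U => ?_
  have hN : Subsingleton (N.val.obj (op ((BigSite.zarIncl S).obj U.1))) := by
    let a : Spec Γ(S, U.1) ⟶ S := U.2.fromSpec
    let φ : rPre f I n ⟶ N.val :=
      (PresheafOfModules.sheafificationAdjunction (𝟙 (BigSite.ORing (Scheme.precoverage P) S).obj)).unit.app _
    haveI : Presheaf.IsLocallyInjective (QuotSh.J (Scheme.precoverage P) S)
        ((PresheafOfModules.toPresheaf _).map φ) :=
      inferInstanceAs (Presheaf.IsLocallyInjective (QuotSh.J (Scheme.precoverage P) S)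
        (CategoryTheory.toSheafify (QuotSh.J (Scheme.precoverage P) S) (rPre f I n).presheaf))
    haveI : Presheaf.IsLocallySurjective (QuotSh.J (Scheme.precoverage P) S)
        ((PresheafOfModules.toPresheaf _).map φ) :=
      inferInstanceAs (Presheaf.IsLocallySurjective (QuotSh.J (Scheme.precoverage P) S)
        (CategoryTheory.toSheafify (QuotSh.J (Scheme.precoverage P) S) (rPre f I n).presheaf))
    have hbase : ∀ W : (pullback a f).Opens, IsAffineOpen W →
        Subsingleton (((openFam f a W).gmod M.val).obj (pt (algOf Γ(S, U.1) Γ(S, U.1)))) := by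
      intro W _
      let Z := ((openFam f a W).X.obj (op (algOf Γ(S, U.1) Γ(S, U.1))))
      haveI : IsOpenImmersion ((specOver a).obj (op (algOf Γ(S, U.1) Γ(S, U.1)))).hom := by
        change IsOpenImmersion (Spec.map (CommRingCat.ofHom (algebraMap Γ(S, U.1) Γ(S, U.1))) ≫ a)
        rw [show CommRingCat.ofHom (algebraMap Γ(S, U.1) Γ(S, U.1)) = 𝟙 Γ(S, U.1) from
          CommRingCat.hom_ext (RingHom.ext fun _ => rfl)]
        infer_instance
      haveI : IsOpenImmersion Z.hom :=
        MorphismProperty.comp_mem @IsOpenImmersion (preOpen f a W (algOf Γ(S, U.1) Γ(S, U.1))).ι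
          (pullback.snd ((specOver a).obj (op (algOf Γ(S, U.1) Γ(S, U.1)))).hom f) inferInstance
          (MorphismProperty.pullback_snd (P := @IsOpenImmersion) _ f inferInstance)
      haveI := hpar Z inferInstance
      exact ((openFam f a W).val M.val _).toEquiv.subsingleton
    haveI : Subsingleton ((FModPre (Scheme.precoverage P) a (rPre f I n)).obj (pt (algOf Γ(S, U.1) Γ(S, U.1)))) :=
      qclass_rPre f a I hflat hM (qClass_subsingleton _) hbase n
    have h : Subsingleton (N.val.obj (op ((specOver a).obj (op (algOf Γ(S, U.1) Γ(S, U.1)))))) :=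
      ((bijective_specOver φ hflat (allAdeqPre_rPre f I hflat hM n) a (algOf Γ(S, U.1) Γ(S, U.1))).2.comp
        (sectOf a (rPre f I n) _).surjective).subsingleton
    exact (tr_iso_bijective N.val (baseObjOpen U.2)).1.subsingleton
  exact ((Function.Surjective.subsingleton (α := N.val.obj (op ((BigSite.zarIncl S).obj U.1)))
    (f := e.hom.val.app (op ((BigSite.zarIncl S).obj U.1)))
    ((SheafOfModules.forget _ ⋙ PresheafOfModules.evaluation _
      (op ((BigSite.zarIncl S).obj U.1))).mapIso e).toLinearEquiv.surjective))

end Groth.Agent.H02CA.Adq
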